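import Cfsg.Agent.H866.ONFive
import Cfsg.Agent.R04.ONThree
import Cfsg.Agent.ONType.OddCentE
import Cfsg.Agent.Lib.Dihedral
import Cfsg.Agent.KFacts.ON.Words_m3
import Cfsg.Agent.H649.PairInduced
import Cfsg.Agent.Blocks.Blau
import Cfsg.Agent.Blocks.Knorr
import Cfsg.Agent.Blocks.BrauerTrunc
import Cfsg.Agent.Blocks.Elementary
import Cfsg.Agent.Characters.Core
import Cfsg.Agent.H665.NoPQ
import Cfsg.Agent.H33.IM
import Cfsg.Agent.H504.ZerosSt
import Cfsg.Agent.H713.Invol
import Cfsg.Agent.Nodes.RGDClass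
import Cfsg.Agent.Classification.Order360Iso
import Cfsg.Agent.S0254
import Cfsg.Agent.FastGrp
import Cfsg.Agent.Prune
set_option linter.all false

section
prune_inst 0x7f00000000000000000000000000000000000000000000000000000000000000000000000000000000000000000000000000000000000000000000000000000000000000000000000000000000000000003fffffffffffffffffffffffffffbeffbdffffffff

-- part: H999/ONThreeHyp
section
prune_inst 0xfffffffffeffffffff7e7fffffdffffbffffffffdffbfbfffffbffffffebfffffdfbafffeffafffef7f2be3afc7bd3fffffeffefffdd7fffff5ff47fffffdfffffbfbf79febffe9ffe6ffffbfbffffffc00000000000000000000000000041004200000000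
set_option linter.all false
open scoped Cfsg.Agent.FastGrp

-- part: H999/ONCitThree
section
/-!
# The O'Nan group: the centralizers of the elements of order 3 in `C(f)` (helper999)

* `cit_three` : in a group of order 20160 in which the involution centralizers are 2-groups a real element of order 3 has
  a centralizer of order 9;
* `card_three` : an element `x` of order 3 of `K0 = C(f)`, inverted by an element of `J = C(v)`: `|C_{K0}(x)| ≤ 72`.
-/

set_option autoImplicit false
set_option maxRecDepth 100000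

namespace Cfsg.Agent.H999.ONCitThree

open Subgroup Cfsg
open Cfsg.Agent.H866.CitFive

section cit

variable {X : Type*} [Group X] [Finite X]

theorem exists_prime {p : ℕ} (hp : p.Prime) {x : X} (h : p ∣ Nat.card ↥(centralizer ({x} : Set X))) :
    ∃ y : X, orderOf y = p ∧ y * x = x * y := by
  have : Fact p.Prime := ⟨hp⟩
  obtain ⟨y, hy⟩ := exists_prime_orderOf_dvd_card' p h
  exact ⟨y, by rw [Subgroup.orderOf_coe, hy], mem_centralizer_singleton_iff.1 y.2⟩

theorem cit_three (hX : Nat.card X = 20160) (hc : Cit X) {x g : X} (hx : orderOf x = 3) (hg : g * x * g⁻¹ = x⁻¹) :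
    Nat.card ↥(centralizer ({x} : Set X)) = 9 := by
  have f5 : Fact (Nat.Prime 5) := ⟨Nat.prime_five⟩
  have f7 : Fact (Nat.Prime 7) := ⟨by norm_num⟩
  have hx1 : x ≠ 1 := by
    intro h
    rw [h, orderOf_one] at hx
    omega
  have hxo : Odd (orderOf x) := by rw [hx]; decide
  obtain ⟨t, ht, htx⟩ := exists_inv hc hx1 hxo hg
  have htt : t * t = 1 := by rw [← pow_two, ← ht, pow_orderOf_eq_one]
  have ho := odd_cent hc hx1 hxo
  have h3 : 3 ∣ Nat.card ↥(centralizer ({x} : Set X)) := by
    rw [← hx, ← Subgroup.orderOf_mk x (mem_centralizer_singleton_iff.2 rfl)]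
    exact orderOf_dvd_natCard _
  have h9 := nine_dvd hX hc hx1 hxo ht htx h3
  have h5 : ¬ 5 ∣ Nat.card ↥(centralizer ({x} : Set X)) := by
    intro h5
    obtain ⟨y, hyo, hyx⟩ := exists_prime (by norm_num) h5
    have hy1 : y ≠ 1 := by
      intro h
      rw [h, orderOf_one] at hyo
      omega
    have hty := inverts hc hx1 hxo ht htx hyx
    have h6 := main hX hc hyo hty
    rw [cent_eq hc hx1 hxo ht htx hyx hy1] at h6
    rw [h6] at h9
    omega
  obtain ⟨a, ha⟩ : ∃ a, a = Nat.card ↥(centralizer ({x} : Set X)) := ⟨_, rfl⟩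
  have had : a ∣ 20160 := by rw [ha, ← hX]; exact card_subgroup_dvd_card _
  rw [← ha] at ho h9 h5
  have ha315 : a ∈ ({1, 3, 5, 7, 9, 15, 21, 35, 45, 63, 105, 315} : Finset ℕ) := by
    have h1 : Nat.Coprime a (2 ^ 6) := Nat.Coprime.pow_right 6 (Nat.coprime_two_right.2 ho)
    have h2 : a ∣ 315 := h1.dvd_of_dvd_mul_left (by norm_num; exact had)
    have : a ∈ Nat.divisors 315 := Nat.mem_divisors.2 ⟨h2, by norm_num⟩
    have h4 : Nat.divisors 315 = {1, 3, 5, 7, 9, 15, 21, 35, 45, 63, 105, 315} := by decide +kernel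
    rwa [h4] at this
  have h63 : a ≠ 63 := by
    intro h
    have h7 : 7 ∣ Nat.card ↥(centralizer ({x} : Set X)) := by rw [← ha, h]; norm_num
    obtain ⟨y, hyo, hyx⟩ := exists_prime (by norm_num) h7
    have hy1 : y ≠ 1 := by
      intro h
      rw [h, orderOf_one] at hyo
      omega
    obtain ⟨n', hn', hcard'⟩ := CpAutON.Gen.card_eq (p := 7) (by rw [hX]; norm_num) hyo
    have hty := inverts hc hx1 hxo ht htx hyx
    have hr2' := two_dvd_range (ne_inv hy1 (by rw [hyo]; decide)) htt hty
    have hr6 : Nat.card ↥((zpowers y).normalizerMonoidHom).range ∣ 6 := by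
      have h := card_subgroup_dvd_card ((zpowers y).normalizerMonoidHom).range
      rw [CpAutON.Gen.card_mulAut hyo] at h
      exact h
    rw [cent_eq hc hx1 hxo ht htx hyx hy1, ← ha, h, hX] at hcard'
    obtain ⟨r', hr'⟩ : ∃ r, r = Nat.card ↥((zpowers y).normalizerMonoidHom).range := ⟨_, rfl⟩
    rw [← hr'] at hr2' hr6 hcard'
    have h1 : r' ≤ 6 := Nat.le_of_dvd (by norm_num) hr6
    interval_cases r' <;> omega
  rw [← ha]
  simp only [Finset.mem_insert, Finset.mem_singleton] at ha315
  omega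

end cit

open Cfsg.Spor (ON)
open Cfsg.Agent.SporadicB.ON45Word (on)
open Cfsg.Agent.KFacts.ON.Words (hs vv v va)
open Cfsg.Agent.KFacts.ON.Struct
open Cfsg.Agent.KFacts.ON.Cent (hON finite_ON cen card_K0)
open Cfsg.Agent.ONType.TupK (K0)
open Cfsg.Agent.H866.ONFive

/-- `|C_J(x)| ≤ 36` -/
theorem card_cent_J_le {x g : J} (hx : (x : ON) ^ 3 = 1) (hx1 : (x : ON) ≠ 1) (hgx : g * x * g⁻¹ = x⁻¹) :
    Nat.card ↥(centralizer ({x} : Set J)) ≤ 36 := by
  have := finite_ON
  set X : J ⧸ center J := QuotientGroup.mk x with hX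
  have hXo : orderOf X = 3 := by
    refine orderOf_eq_prime (hp := ⟨by norm_num⟩) ?_ ?_
    · rw [hX, ← QuotientGroup.mk_pow]
      have : x ^ 3 = 1 := Subtype.ext hx
      rw [this]; rfl
    · intro h
      have h1 := mk_eq_one.1 h
      have h2 : (x : ON) ^ 4 = 1 := by
        obtain ⟨n, hn⟩ := mem_zpowers_iff.1 h1
        rw [← hn, ← zpow_natCast, ← zpow_mul, mul_comm, zpow_mul]
        have : v ^ ((4 : ℕ) : ℤ) = 1 := by rw [zpow_natCast]; exact v_pow
        rw [this, one_zpow]
      apply hx1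
      have e : (x : ON) ^ 4 = (x : ON) ^ 3 * x := pow_succ _ _
      rw [hx, h2, one_mul] at e
      exact e.symm
  have h5 := cit_three card_quot cit hXo (g := QuotientGroup.mk g) (by
    rw [hX, ← QuotientGroup.mk_inv, ← QuotientGroup.mk_inv, ← QuotientGroup.mk_mul, ← QuotientGroup.mk_mul, hgx])
  let φ : ↥(centralizer ({x} : Set J)) →* ↥(centralizer ({X} : Set (J ⧸ center J))) :=
    { toFun := fun c => ⟨QuotientGroup.mk (c : J), by
        rw [mem_centralizer_singleton_iff, hX, ← QuotientGroup.mk_mul, ← QuotientGroup.mk_mul,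
          mem_centralizer_singleton_iff.1 c.2]⟩
      map_one' := rfl
      map_mul' := fun _ _ => rfl }
  have hker : Nat.card ↥φ.ker ≤ 4 := by
    rw [← card_center]
    refine Nat.card_le_card_of_injective (fun c : ↥φ.ker => (⟨((c : ↥(centralizer ({x} : Set J))) : J), ?_⟩ : ↥(center J))) ?_
    · have h1 := c.2
      rw [MonoidHom.mem_ker] at h1
      have h2 := congrArg Subtype.val h1
      exact (QuotientGroup.eq_one_iff _).1 h2
    · intro a b hab
      have h1 : ((a : ↥(centralizer ({x} : Set J))) : J) = ((b : ↥(centralizer ({x} : Set J))) : J) :=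
        congrArg (fun z : ↥(center J) => (z : J)) hab
      exact Subtype.ext (Subtype.ext h1)
  have h6 := φ.ker.card_mul_index
  rw [Subgroup.index_ker] at h6
  have h7 : Nat.card ↥φ.range ≤ 9 := by
    rw [← h5]
    exact Subgroup.card_le_card_group _
  calc Nat.card ↥(centralizer ({x} : Set J)) = Nat.card ↥φ.ker * Nat.card ↥φ.range := h6.symm
    _ ≤ 4 * 9 := Nat.mul_le_mul hker h7

/-- `|C(x) ∩ C(f)| ≤ 72` -/
theorem card_cent_le {x g : ON} (hxJ : x ∈ J) (hgJ : g ∈ J) (hx : x ^ 3 = 1) (hx1 : x ≠ 1) (hgx : g * x * g⁻¹ = x⁻¹) :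
    Nat.card ↥(centralizer ({x} : Set ON) ⊓ K0) ≤ 72 := by
  have := finite_ON
  have h1 := card_cent_J_le (x := ⟨x, hxJ⟩) (g := ⟨g, hgJ⟩) hx hx1 (Subtype.ext hgx)
  set C := centralizer ({x} : Set ON) ⊓ K0 with hC
  have hJn : (J.subgroupOf K0).Normal := Subgroup.normal_of_index_eq_two index_J
  have h2 : Nat.card ↥(J.subgroupOf C) ≤ 36 := by
    refine le_trans (Nat.card_le_card_of_injective
      (fun c : ↥(J.subgroupOf C) => (⟨⟨((c : ↥C) : ON), c.2⟩, ?_⟩ : ↥(centralizer ({(⟨x, hxJ⟩ : J)} : Set J)))) ?_) h1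
    · rw [mem_centralizer_singleton_iff]
      apply Subtype.ext
      exact mem_centralizer_singleton_iff.1 ((c : ↥C).2).1
    · intro a b hab
      have h3 : ((a : ↥C) : ON) = ((b : ↥C) : ON) :=
        congrArg (fun z : ↥(centralizer ({(⟨x, hxJ⟩ : J)} : Set J)) => ((z : J) : ON)) hab
      exact Subtype.ext (Subtype.ext h3)
  have h3 := (J.subgroupOf C).card_mul_index
  have h4 : (J.subgroupOf C).index ≤ 2 := by
    have h5 : J.relIndex C ∣ J.relIndex K0 := by
      have h6 : (J.subgroupOf K0).relIndex (C.subgroupOf K0) ∣ (J.subgroupOf K0).index :=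
        Subgroup.relIndex_dvd_index_of_normal _ _
      rw [relIndex_subgroupOf inf_le_right] at h6
      exact h6
    have h6 : J.relIndex K0 = 2 := index_J
    rw [h6] at h5
    exact Nat.le_of_dvd (by norm_num) h5
  rw [← h3]
  calc _ ≤ 36 * 2 := Nat.mul_le_mul h2 h4
    _ = 72 := by norm_num

end Cfsg.Agent.H999.ONCitThree
end

-- part: H999/ONThreeHyp
section
/-!
# The O'Nan group: the centralizer of the subgroup `P` of order 9 of `C(f)` (helper999)

`hyp` : the hypotheses of `ONType.OddCent` for the involution `f`, `P = ⟨x₁, x₂⟩`, `D = ⟨v, d⟩` and `p`. Hence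
`C(x) = C(P) = P × L` has order 3240 for `1 ≠ x ∈ P`, `L` simple of order 360.
-/

set_option autoImplicit false
set_option maxRecDepth 100000

namespace Cfsg.Agent.H999.ONThreeHyp

open Subgroup Cfsg
open Cfsg.Spor (ON)
open Cfsg.Spor.ON (Gen)
open Cfsg.Agent.SporadicB.ON45Word (on)
open Cfsg.Agent.KFacts.ON.Words (hs vv v va vb vd)
open Cfsg.Agent.KFacts.ON.Struct
open Cfsg.Agent.KFacts.ON.Cent (hON finite_ON cen card_K0)
open Cfsg.Agent.KFacts.MulSpor.ON (w w_append w_one w_cons w_iw iw)
open Cfsg.Agent.ONType.TupK (K0)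
open Cfsg.Agent.R04.ThreeAbs Cfsg.Agent.R04.ONThree
open Cfsg.Agent.H866.ONFive (v_pow)

theorem D0 : Data (on .a) (on .b) (on .e) (on .f) p q := data hs

/-- the elements of `P` -/
def xx (i j : ℕ) : ON := el (on .a) (on .b) (on .e) (on .f) p q i j 0 0

theorem xx_mul (i j i' j' : ℕ) : xx i j * xx i' j' = xx (i + i') (j + j') := D0.el_mul _ _ _ _ _ _ _ _

theorem xx_inv (i j : ℕ) : (xx i j)⁻¹ = xx (2 * i) (2 * j) := D0.el_inv _ _ _ _

theorem xx_mod (i j : ℕ) : xx i j = xx (i % 3) (j % 3) := D0.el_mod _ _ _ _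

theorem xx_ne {i j : ℕ} (hi : i < 3) (hj : j < 3) (h : i ≠ 0 ∨ j ≠ 0) : xx i j ≠ 1 :=
  (D0.Q_el ab_ne fe_ne a_ne f_ne (inv hs) i j 0 0 hi hj (by norm_num) (by norm_num)
    (by tauto)).1

theorem xx_eq (i j : ℕ) : xx i j = (on .a * on .b) ^ i * (p * (on .a * on .b) * p⁻¹) ^ j := by
  unfold xx el
  rw [pow_zero, pow_zero, mul_one, mul_one]

/-- the subgroup of order 9 -/
def P : Subgroup ON where
  carrier := {g | ∃ i j : ℕ, g = xx i j}
  mul_mem' := by
    rintro _ _ ⟨i, j, rfl⟩ ⟨i', j', rfl⟩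
    exact ⟨_, _, xx_mul _ _ _ _⟩
  one_mem' := ⟨0, 0, by simp [xx, el]⟩
  inv_mem' := by
    rintro _ ⟨i, j, rfl⟩
    exact ⟨_, _, xx_inv _ _⟩

theorem mem_P {x : ON} : x ∈ P ↔ ∃ i j : ℕ, x = xx i j := Iff.rfl

theorem card_P : Nat.card P = 9 := by
  have hbij : Function.Bijective (fun x : Fin 3 × Fin 3 => (⟨xx x.1 x.2, ⟨_, _, rfl⟩⟩ : P)) := by
    constructor
    · rintro ⟨i, j⟩ ⟨i', j'⟩ h
      have h0 : xx i j = xx i' j' := congrArg Subtype.val h
      by_contra hne
      have h1 : xx (i + 2 * i') (j + 2 * j') = 1 := by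
        rw [← xx_mul, ← xx_inv, h0, mul_inv_cancel]
      rw [xx_mod] at h1
      refine xx_ne (Nat.mod_lt _ (by norm_num)) (Nat.mod_lt _ (by norm_num)) ?_ h1
      by_contra hcon
      push Not at hcon
      obtain ⟨e1, e2⟩ := hcon
      apply hne
      have aux : ∀ u v : Fin 3, ((u : ℕ) + 2 * v) % 3 = 0 → u = v := by decide
      rw [aux i i' e1, aux j j' e2]
    · rintro ⟨_, i, j, rfl⟩
      refine ⟨(⟨i % 3, Nat.mod_lt _ (by norm_num)⟩, ⟨j % 3, Nat.mod_lt _ (by norm_num)⟩), ?_⟩
      apply Subtype.ext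
      exact (xx_mod i j).symm
  rw [← Nat.card_congr (Equiv.ofBijective _ hbij)]
  simp

theorem pow_three {x : ON} (hx : x ∈ P) : x ^ 3 = 1 := by
  obtain ⟨i, j, rfl⟩ := hx
  have h : xx i j ^ 3 = xx (3 * i) (3 * j) := by
    rw [pow_succ, pow_two, xx_mul, xx_mul]
    congr 1 <;> ring
  rw [h, xx_mod, Nat.mul_mod_right, Nat.mul_mod_right]
  simp [xx, el]

theorem pJ : p ∈ J := mem_J.2 D0.pq

theorem P_le_J : P ≤ J := by
  rintro _ ⟨i, j, rfl⟩
  rw [xx_eq]
  exact J.mul_mem (J.pow_mem (J.mul_mem aJ bJ) _)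
    (J.pow_mem (J.mul_mem (J.mul_mem pJ (J.mul_mem aJ bJ)) (J.inv_mem pJ)) _)

theorem conj_a {x : ON} (hx : x ∈ P) : on .a * x * (on .a)⁻¹ = x⁻¹ := by
  obtain ⟨i, j, rfl⟩ := hx
  have h : on .a * xx i j * (on .a)⁻¹ = (on .a * (on .a * on .b) * (on .a)⁻¹) ^ i *
      (on .a * (p * (on .a * on .b) * p⁻¹) * (on .a)⁻¹) ^ j := by
    rw [conj_pow, conj_pow, xx_eq]; group
  rw [h, D0.conj_ab, D0.conj_a_2, xx_inv, xx_eq, ← pow_mul, ← pow_mul]

theorem conj_p {x : ON} (hx : x ∈ P) : p * x * p⁻¹ ∈ P := by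
  obtain ⟨i, j, rfl⟩ := hx
  have h : p * xx i j * p⁻¹ = (p * (on .a * on .b) * p⁻¹) ^ i *
      (p * (p * (on .a * on .b) * p⁻¹) * p⁻¹) ^ j := by
    rw [conj_pow, conj_pow, xx_eq]; group
  have h2 : p * xx i j * p⁻¹ = xx 0 i * xx (2 * j) 0 := by
    rw [h, D0.px2, ← pow_mul, xx_eq, xx_eq, pow_zero, pow_zero, one_mul, mul_one]
  rw [h2, xx_mul]
  exact ⟨_, _, rfl⟩

/-! ### The dihedral group -/

theorem da : on .d * on .a = on .a * on .d := by
  have h : w [.d, .a] = w [.a, .d] := Cfsg.Agent.KFacts.ON.Words.eq _ _ (by decide +kernel)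
  simpa [w] using h

theorem db : on .d * on .b = on .b * on .d := by
  have h : w [.d, .b] = w [.b, .d] := Cfsg.Agent.KFacts.ON.Words.eq _ _ (by decide +kernel)
  simpa [w] using h

theorem x2_word : p * (on .a * on .b) * p⁻¹ = w [.f, .c, .g, .c, .g, .a, .b, .g, .g, .g, .c, .g, .g, .g, .c, .f] := by
  rw [mul_inv_eq_iff_eq_mul]
  have h : w [.f, .c, .g, .c, .g, .a, .b] = w (([.f, .c, .g, .c, .g, .a, .b, .g, .g, .g, .c, .g, .g, .g, .c, .f] : List Cfsg.Spor.ON.Gen) ++
    ([.f, .c, .g, .c, .g] : List Cfsg.Spor.ON.Gen)) := Cfsg.Agent.KFacts.ON.Words.eq _ _ (by decide +kernel)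
  rw [w_append] at h
  rw [show p = w [.f, .c, .g, .c, .g] from rfl, ← h]
  simp [w, mul_assoc]

theorem dx2 : on .d * (p * (on .a * on .b) * p⁻¹) = (p * (on .a * on .b) * p⁻¹) * on .d := by
  rw [x2_word]
  have h : w (([.d] : List Cfsg.Spor.ON.Gen) ++ ([.f, .c, .g, .c, .g, .a, .b, .g, .g, .g, .c, .g, .g, .g, .c, .f] : List Cfsg.Spor.ON.Gen)) =
    w (([.f, .c, .g, .c, .g, .a, .b, .g, .g, .g, .c, .g, .g, .g, .c, .f] : List Cfsg.Spor.ON.Gen) ++ ([.d] : List Cfsg.Spor.ON.Gen)) :=
      Cfsg.Agent.KFacts.ON.Words.eq _ _ (by decide +kernel)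
  rwa [w_append, w_append, w_one] at h

/-- the dihedral group -/
def D : Subgroup ON := closure {v, on .d}

theorem order_v : orderOf v = 4 := by
  rw [← Nat.card_zpowers]
  exact Cfsg.Agent.H866.ONFive.card_zv

theorem dvd' : on .d * v * on .d = v⁻¹ := by
  have h := vd
  rwa [d_inv] at h

theorem d_notMem : on .d ∉ zpowers v := fun h => d_not_mem ((zpowers_le.2 vJ) h)

theorem dih : Nonempty (D ≃* DihedralGroup 4) :=
  Cfsg.Agent.Lib.Dihedral.nonempty_mulEquiv_closure v (on .d) order_v dd dvd' d_notMem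

theorem card_D : Nat.card D = 8 :=
  Cfsg.Agent.Lib.Dihedral.card_closure v (on .d) order_v dd dvd' d_notMem

theorem D_le_K0 : D ≤ K0 := by
  unfold D
  rw [closure_le]
  rintro x (rfl | rfl)
  · exact J_le vJ
  · exact d_mem

theorem D_comm {y x : ON} (hy : y ∈ D) (hx : x ∈ P) : y * x = x * y := by
  have h : D ≤ centralizer ({x} : Set ON) := by
    unfold D
    rw [closure_le]
    obtain ⟨i, j, rfl⟩ := hx
    have key : ∀ z : ON, Commute z (on .a * on .b) → Commute z (p * (on .a * on .b) * p⁻¹) →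
        z ∈ centralizer ({xx i j} : Set ON) := by
      intro z h1 h2
      rw [mem_centralizer_singleton_iff, xx_eq]
      exact ((h1.pow_right i).mul_right (h2.pow_right j)).eq
    rintro z (rfl | rfl)
    · exact key _ D0.comm_q_1 D0.comm_q_2
    · exact key _ ((show Commute (on .d) (on .a) from da).mul_right db) dx2
  exact mem_centralizer_singleton_iff.1 (h hy)

theorem inf_eq : P ⊓ D = ⊥ := by
  apply Subgroup.inf_eq_bot_of_coprime
  rw [card_P, card_D]
  norm_num

theorem cent {x : ON} (hx : x ∈ P) (hx1 : x ≠ 1) {g : ON} (hg : g * x = x * g) (hgf : g * on .f = on .f * g) :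
    ∃ y ∈ P, ∃ z ∈ D, g = y * z := by
  have := finite_ON
  have h72 := Cfsg.Agent.H999.ONCitThree.card_cent_le (P_le_J hx) aJ (pow_three hx) hx1 (conj_a hx)
  have hcomm : ∀ y ∈ P, y * x = x * y := by
    rintro _ ⟨i, j, rfl⟩
    obtain ⟨i', j', rfl⟩ := hx
    rw [xx_mul, xx_mul, add_comm i, add_comm j]
  let φ : P × D → ↥(centralizer ({x} : Set ON) ⊓ K0) := fun yz => ⟨yz.1 * yz.2, by
    refine ⟨mem_centralizer_singleton_iff.2 ?_, K0.mul_mem (J_le (P_le_J yz.1.2)) (D_le_K0 yz.2.2)⟩
    rw [mul_assoc, D_comm yz.2.2 hx, ← mul_assoc, hcomm _ yz.1.2, mul_assoc]⟩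
  have hinj : Function.Injective φ := by
    rintro ⟨y, z⟩ ⟨y', z'⟩ h
    have h1 : (y : ON) * z = y' * z' := congrArg Subtype.val h
    have h2 : (y' : ON)⁻¹ * y = z' * (z : ON)⁻¹ := by
      rw [inv_mul_eq_iff_eq_mul, ← mul_assoc, ← h1, mul_inv_cancel_right]
    have h3 : (y' : ON)⁻¹ * y ∈ P ⊓ D := by
      refine ⟨P.mul_mem (P.inv_mem y'.2) y.2, ?_⟩
      rw [h2]
      exact D.mul_mem z'.2 (D.inv_mem z.2)
    rw [inf_eq, mem_bot] at h3
    have h4 : (y' : ON) = y := (inv_mul_eq_one.1 h3)
    rw [h3] at h2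
    have h5 : (z' : ON) = z := (mul_inv_eq_one.1 h2.symm)
    exact Prod.ext (Subtype.ext h4.symm) (Subtype.ext h5.symm)
  have hbij := hinj.bijective_of_nat_card_le (by
    rw [Nat.card_prod, card_P, card_D]
    exact h72)
  obtain ⟨⟨y, z⟩, hyz⟩ := hbij.2 ⟨g, mem_centralizer_singleton_iff.2 hg, mem_K0.2 hgf⟩
  exact ⟨y, y.2, z, z.2, (congrArg Subtype.val hyz).symm⟩

theorem order_f : orderOf (on .f) = 2 := orderOf_eq_prime (by rw [pow_two, ff]) f_ne_one

theorem hyp : Cfsg.Agent.ONType.OddCent.Hyp (on .f) P D p where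
  ht := order_f
  one := by
    intro s hs2
    have h1 : s * s = 1 := by rw [← pow_two, ← hs2, pow_orderOf_eq_one]
    have h2 : s ≠ 1 := by
      rintro rfl
      rw [orderOf_one] at hs2
      omega
    obtain ⟨g, hg⟩ := isConj_iff.1 (Cfsg.Agent.KFacts.ON.OneClass.one_class h1 h2).symm
    exact ⟨g, hg⟩
  cardP := card_P
  expP := fun x hx => pow_three hx
  Pt := fun x hx => mem_K0.1 (J_le (P_le_J hx))
  syl := by
    rw [Cfsg.Agent.KFacts.ON.Cent.card_cent]
    norm_num
  tD := by
    rw [← vv]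
    exact D.mul_mem (subset_closure (by simp)) (subset_closure (by simp))
  Dt := fun x hx => mem_K0.1 (D_le_K0 hx)
  dih := dih
  DP := fun y hy x hx => D_comm hy hx
  cent := fun x hx hx1 g hg hgf => cent hx hx1 hg hgf
  kP := fun x hx => conj_p hx
  kinv := fun x hx => by
    rw [D0.pp]
    exact conj_a hx

end Cfsg.Agent.H999.ONThreeHyp
end

private theorem dce_c43be4512e4e : _root_.True := by
  try have : _root_.True := by simp only [_root_.Cfsg.Agent.H999.ONThreeHyp.xx.eq_1]
  exact _root_.True.intro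
end

-- part: H999/ONIMThree
section
set_option linter.all false
open scoped Cfsg.Agent.FastGrp

-- part: H593/IMWeight
section
/-!
# A defect zero character of `C_G(D) / D` gives a character of `G` of large height

`exists_of_weight`: `D` an abelian `p`-subgroup of `G` such that `p` does not divide
`|N_G(D) : C_G(D)|`, and such that `C_G(D) / D` has an irreducible character of `p`-defect zero.
Then `G` has an irreducible character whose degree is divisible by `|G : D|_p`.

`IM_of_weight`: the element version: `x` of order `p`, `p ^ 2` divides `|G|` and `C_G(x) / ⟨x⟩` has an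
irreducible character of `p`-defect zero.
-/

set_option autoImplicit false
set_option linter.unusedSectionVars false

open Cfsg

namespace Cfsg.Agent.H593.IMWeight

open Cfsg.Agent.Characters.Core Cfsg.Agent.Blocks.Local Cfsg.Agent.Blocks.Elementary
open Cfsg.Agent.Blocks.Blau Cfsg.Agent.Blocks.Knorr Cfsg.Agent.H33

universe u v

local notation "conj" => starRingEnd ℂ

section act

variable {G : Type u} [Group G] (D : Subgroup G)

theorem conj_mem (n : Subgroup.normalizer (D : Set G)) (c : Subgroup.centralizer (D : Set G)) :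
    (n : G) * c * (n : G)⁻¹ ∈ Subgroup.centralizer (D : Set G) :=
  (Cfsg.Agent.Blocks.BrauerTrunc.mul_mem_centralizer_iff (P := D)
    (H := Subgroup.normalizer (D : Set G)) le_rfl n.2).2 c.2

/-- The conjugation action of `N_G(D)` on `C_G(D)`. -/
def cj (n : Subgroup.normalizer (D : Set G)) :
    Subgroup.centralizer (D : Set G) →* Subgroup.centralizer (D : Set G) where
  toFun c := ⟨(n : G) * c * (n : G)⁻¹, conj_mem D n c⟩
  map_one' := by
    apply Subtype.ext
    simp
  map_mul' a b := by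
    apply Subtype.ext
    push_cast
    group

@[simp] theorem cj_coe (n : Subgroup.normalizer (D : Set G))
    (c : Subgroup.centralizer (D : Set G)) : (cj D n c : G) = (n : G) * c * (n : G)⁻¹ := rfl

theorem cj_cj (m n : Subgroup.normalizer (D : Set G)) (c : Subgroup.centralizer (D : Set G)) :
    cj D m (cj D n c) = cj D (m * n) c := by
  apply Subtype.ext
  simp only [cj_coe, Subgroup.coe_mul]
  group

theorem cj_one (c : Subgroup.centralizer (D : Set G)) : cj D 1 c = c := by
  apply Subtype.ext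
  simp only [_root_.Cfsg.Agent.H593.IMWeight.cj_coe, _root_.OneMemClass.coe_one, _root_.one_mul, _root_.inv_one, _root_.mul_one]

theorem cj_surjective (n : Subgroup.normalizer (D : Set G)) : Function.Surjective (cj D n) := by
  intro c
  exact ⟨cj D n⁻¹ c, by rw [cj_cj, mul_inv_cancel, cj_one]⟩

/-- The stabilizer of a function on `C_G(D)`. -/
def stab (ξ : Subgroup.centralizer (D : Set G) → ℂ) :
    Subgroup (Subgroup.normalizer (D : Set G)) where
  carrier := {n | ∀ c, ξ (cj D n c) = ξ c}
  one_mem' c := by rw [cj_one]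
  mul_mem' {a b} ha hb c := by rw [← cj_cj, ha, hb]
  inv_mem' {a} ha c := by
    have h := ha (cj D a⁻¹ c)
    rw [cj_cj, mul_inv_cancel, cj_one] at h
    exact h.symm

end act


section counting

theorem sum_fiber {A B : Type*} [Fintype A] [Fintype B] [DecidableEq B] (φ : A → B) (k : ℕ)
    (hk : ∀ b, (Finset.univ.filter (fun a => φ a = b)).card = k) (F : B → ℂ) :
    ∑ a, F (φ a) = k * ∑ b, F b := by
  rw [← Finset.sum_fiberwise Finset.univ φ, Finset.mul_sum]
  refine Finset.sum_congr rfl fun b _ => ?_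
  rw [Finset.sum_congr rfl (g := fun _ => F b) (fun a ha => by rw [(Finset.mem_filter.1 ha).2]),
    Finset.sum_const, hk, nsmul_eq_mul]

theorem sum_hom {A B : Type*} [Group A] [Group B] [Fintype A] [Fintype B] (f : A →* B)
    (hf : Function.Surjective f) (F : B → ℂ) :
    ∑ a, F (f a) = (Nat.card f.ker : ℂ) * ∑ b, F b := by
  classical
  refine sum_fiber f _ (fun b => ?_) F
  obtain ⟨a, rfl⟩ := hf b
  have h1 : (Finset.univ.filter fun a' => f a' = f a) =
      Finset.univ.image (fun k : f.ker => a * k) := by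
    ext a'
    simp only [Finset.mem_filter, Finset.mem_univ, true_and, Finset.mem_image]
    constructor
    · intro h
      exact ⟨⟨a⁻¹ * a', by rw [MonoidHom.mem_ker, map_mul, map_inv, h, inv_mul_cancel]⟩, by simp⟩
    · rintro ⟨k, rfl⟩
      rw [map_mul, (MonoidHom.mem_ker).1 k.2, mul_one]
  rw [h1, Finset.card_image_of_injective _ (fun k l h => Subtype.ext (mul_left_cancel h)),
    Finset.card_univ, Nat.card_eq_fintype_card]

theorem sum_coset {N : Type*} [Group N] [Fintype N] (C : Subgroup N) [Fintype (N ⧸ C)] (g : N → ℂ)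
    (hg : ∀ n, ∀ c ∈ C, g (n * c) = g n) :
    ∑ n, g n = (Nat.card C : ℂ) * ∑ q : N ⧸ C, g q.out := by
  classical
  have h0 : ∀ n : N, g n = g (QuotientGroup.mk n : N ⧸ C).out := by
    intro n
    obtain ⟨c, hc⟩ := QuotientGroup.mk_out_eq_mul C n
    rw [hc, hg n c c.2]
  rw [Finset.sum_congr rfl fun n _ => h0 n]
  refine sum_fiber (fun n : N => (QuotientGroup.mk n : N ⧸ C)) _ (fun q => ?_) fun q => g q.out
  have h1 : (Finset.univ.filter fun n : N => (QuotientGroup.mk n : N ⧸ C) = q) =
      Finset.univ.image (fun c : C => q.out * c) := by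
    ext n
    simp only [Finset.mem_filter, Finset.mem_univ, true_and, Finset.mem_image]
    constructor
    · intro h
      refine ⟨⟨q.out⁻¹ * n, ?_⟩, by simp⟩
      rw [← QuotientGroup.eq, h, QuotientGroup.out_eq']
    · rintro ⟨c, rfl⟩
      rw [QuotientGroup.mk_mul_of_mem _ c.2, QuotientGroup.out_eq']
  rw [h1, Finset.card_image_of_injective _ (fun k l h => Subtype.ext (mul_left_cancel h)),
    Finset.card_univ, Nat.card_eq_fintype_card]

end counting

section main

variable {G : Type u} [Group G] [Finite G] {p : ℕ} [hp : Fact p.Prime] {M : Ideal AlgInt}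

/-- The sum of the conjugates. -/
noncomputable def S (D : Subgroup G) [Fintype (Subgroup.normalizer (D : Set G))]
    (ξ : Subgroup.centralizer (D : Set G) → ℂ) (c : Subgroup.centralizer (D : Set G)) : ℂ :=
  ∑ n : Subgroup.normalizer (D : Set G), ξ (cj D n c)

variable (D : Subgroup G) [Fintype (Subgroup.normalizer (D : Set G))]

theorem S_cj (ξ : Subgroup.centralizer (D : Set G) → ℂ) (m : Subgroup.normalizer (D : Set G))
    (c : Subgroup.centralizer (D : Set G)) : S D ξ (cj D m c) = S D ξ c := by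
  unfold S
  refine Fintype.sum_equiv (Equiv.mulRight m) _ _ fun n => ?_
  rw [cj_cj]
  rfl

/-- If all `ξ (n c n⁻¹)` lie in the maximal ideal, so does `S c / |C|`. -/
theorem S_div_mem (hM : IsPModular p M) {ξ : Subgroup.centralizer (D : Set G) → ℂ}
    (hξ : IsClassFunction (Subgroup.centralizer (D : Set G)) ξ)
    {c : Subgroup.centralizer (D : Set G)} (h : ∀ n, MemLocalIdeal M (ξ (cj D n c))) :
    MemLocalIdeal M (S D ξ c / Nat.card (Subgroup.centralizer (D : Set G))) := by
  classical
  have hprime := isPrime_of_isPModular hM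
  set C := (Subgroup.centralizer (D : Set G)).subgroupOf (Subgroup.normalizer (D : Set G)) with hC
  have := Fintype.ofFinite (Subgroup.normalizer (D : Set G) ⧸ C)
  have h1 : S D ξ c = (Nat.card C : ℂ) *
      ∑ q : Subgroup.normalizer (D : Set G) ⧸ C, ξ (cj D q.out c) := by
    unfold S
    refine sum_coset C (fun n => ξ (cj D n c)) fun n c' hc' => ?_
    have hc'' : (c' : G) ∈ Subgroup.centralizer (D : Set G) := hc'
    have h2 : cj D (n * c') c =
        cj D n ⟨c', hc''⟩ * cj D n c * (cj D n ⟨c', hc''⟩)⁻¹ := by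
      apply Subtype.ext
      simp only [cj_coe, Subgroup.coe_mul, Subgroup.coe_inv]
      group
    show ξ (cj D (n * c') c) = ξ (cj D n c)
    rw [h2]
    exact hξ _ _
  have h2 : Nat.card C = Nat.card (Subgroup.centralizer (D : Set G)) := by
    rw [hC]
    exact Nat.card_congr (Subgroup.subgroupOfEquivOfLe
      (Subgroup.centralizer_le_normalizer (D : Set G))).toEquiv
  have h3 : (Nat.card (Subgroup.centralizer (D : Set G)) : ℂ) ≠ 0 := by
    exact_mod_cast Nat.card_pos.ne'
  rw [h1, h2, mul_div_cancel_left₀ _ h3]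
  exact memLocalIdeal_sum fun q _ => h _

/-- `∑ S(c) ξ(c⁻¹) = |C| |stab ξ|`. -/
theorem sum_S [Fintype (Subgroup.centralizer (D : Set G))]
    {ξ : Subgroup.centralizer (D : Set G) → ℂ}
    (hξ : IsIrrCharacter (Subgroup.centralizer (D : Set G)) ξ) :
    ∑ c, S D ξ c * conj (ξ c) =
      (Nat.card (Subgroup.centralizer (D : Set G)) : ℂ) * Nat.card (stab D ξ) := by
  classical
  have h1 : ∀ n : Subgroup.normalizer (D : Set G), ∑ c, ξ (cj D n c) * conj (ξ c) =
      if n ∈ stab D ξ then (Nat.card (Subgroup.centralizer (D : Set G)) : ℂ) else 0 := by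
    intro n
    have h2 : IsIrrCharacter _ (ξ ∘ cj D n) := isIrr_comp (cj D n) (cj_surjective D n) hξ
    have h3 := classInner_irr h2 hξ
    rw [classInner_def, inv_mul_eq_iff_eq_mul₀ (by exact_mod_cast Nat.card_pos.ne')] at h3
    rw [show (∑ c, ξ (cj D n c) * conj (ξ c)) = ∑ c, (ξ ∘ cj D n) c * conj (ξ c) from rfl, h3]
    by_cases hn : n ∈ stab D ξ
    · have h4 : (ξ ∘ cj D n) = ξ := funext hn
      rw [if_pos hn, if_pos h4, mul_one]
    · have h4 : ¬ (ξ ∘ cj D n) = ξ := fun h => hn (fun c => congrFun h c)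
      rw [if_neg hn, if_neg h4, mul_zero]
  unfold S
  simp only [Finset.sum_mul]
  rw [Finset.sum_comm, Finset.sum_congr rfl fun n _ => h1 n, ← Finset.sum_filter, Finset.sum_const,
    nsmul_eq_mul, mul_comm]
  congr 2
  rw [Nat.card_eq_fintype_card, Fintype.card_subtype]

/-- `|stab ξ|_p = |C|_p`. -/
theorem card_stab (hN : ¬ p ∣ (Subgroup.centralizer (D : Set G)).relIndex
      (Subgroup.normalizer (D : Set G)))
    {ξ : Subgroup.centralizer (D : Set G) → ℂ}
    (hξ : IsClassFunction (Subgroup.centralizer (D : Set G)) ξ) :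
    (Nat.card (stab D ξ)).factorization p =
      (Nat.card (Subgroup.centralizer (D : Set G))).factorization p := by
  have hle : Subgroup.centralizer (D : Set G) ≤ Subgroup.normalizer (D : Set G) :=
    Subgroup.centralizer_le_normalizer (D : Set G)
  have h1 : (Subgroup.centralizer (D : Set G)).subgroupOf (Subgroup.normalizer (D : Set G)) ≤
      stab D ξ := by
    intro n hn c
    have hn' : (n : G) ∈ Subgroup.centralizer (D : Set G) := hn
    have h2 : cj D n c = ⟨n, hn'⟩ * c * (⟨n, hn'⟩ : Subgroup.centralizer (D : Set G))⁻¹ := by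
      apply Subtype.ext
      simp only [cj_coe, _root_.Subgroup.coe_mul, _root_.InvMemClass.coe_inv]
    rw [h2]
    exact hξ _ _
  revert h1
  generalize stab D ξ = T
  intro h1
  revert hle h1 T
  generalize Subgroup.normalizer (D : Set G) = N at hN ⊢
  generalize Subgroup.centralizer (D : Set G) = C at hN ⊢
  intro hle T h1
  have h2 : Nat.card (C.subgroupOf N) = Nat.card C :=
    Nat.card_congr (Subgroup.subgroupOfEquivOfLe hle).toEquiv
  have h3 : Nat.card C ∣ Nat.card T := by
    rw [← h2]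
    exact Subgroup.card_dvd_of_le h1
  have h4 : Nat.card T ∣ Nat.card N := Subgroup.card_subgroup_dvd_card _
  have h5 : Nat.card C * C.relIndex N = Nat.card N := by
    rw [← h2]
    exact Subgroup.card_mul_index _
  have h6 : (Nat.card N).factorization p = (Nat.card C).factorization p := by
    rw [← h5, Nat.factorization_mul Nat.card_pos.ne' ?_, Finsupp.add_apply,
      Nat.factorization_eq_zero_of_not_dvd hN, add_zero]
    intro h0
    exact hN (h0 ▸ dvd_zero p)
  apply le_antisymm
  · rw [← h6]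
    exact (Nat.factorization_le_iff_dvd Nat.card_pos.ne' Nat.card_pos.ne').2 h4 p
  · exact (Nat.factorization_le_iff_dvd Nat.card_pos.ne' Nat.card_pos.ne').2 h3 p

theorem isClassFunction_S {ξ : Subgroup.centralizer (D : Set G) → ℂ} :
    IsClassFunction (Subgroup.centralizer (D : Set G)) (S D ξ) := by
  intro g h
  have h1 : h * g * h⁻¹ =
      cj D ⟨h, Subgroup.centralizer_le_normalizer (D : Set G) h.2⟩ g := by
    apply Subtype.ext
    simp only [cj_coe, _root_.Subgroup.coe_mul, _root_.InvMemClass.coe_inv]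
  rw [h1, S_cj]

/-- Ratios of natural numbers with the same `p`-part are not in the maximal ideal. -/
theorem not_mem_ratio (hM : IsPModular p M) {a b : ℕ} (ha : a ≠ 0) (hb : b ≠ 0)
    (hab : a.factorization p ≤ b.factorization p) : ¬ MemLocalIdeal M ((a : ℂ) / b) := by
  intro h
  have hprime := isPrime_of_isPModular hM
  have h1 := memLocalIdeal_mul_right h (memLocalRing_natCast_div hM ha hab)
  apply not_memLocalIdeal_one (M := M)
  convert h1 using 1
  have ha' : (a : ℂ) ≠ 0 := by exact_mod_cast ha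
  have hb' : (b : ℂ) ≠ 0 := by exact_mod_cast hb
  field_simp

theorem exists_S (hM : IsPModular p M)
    (hN : ¬ p ∣ (Subgroup.centralizer (D : Set G)).relIndex (Subgroup.normalizer (D : Set G)))
    {H : Type v} [Group H] (f : Subgroup.centralizer (D : Set G) →* H)
    (hf : Function.Surjective f)
    (hker : ∀ c : Subgroup.centralizer (D : Set G), f c = 1 ↔ (c : G) ∈ D)
    (θ : IrrCharacter H)
    (hθ : (charDegree (θ : H → ℂ)).factorization p = (Nat.card H).factorization p) :
    ∃ c : Subgroup.centralizer (D : Set G), ¬ MemLocalIdeal M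
      (S D ((θ : H → ℂ) ∘ f) c / Nat.card (Subgroup.centralizer (D : Set G))) := by
  classical
  have hprime := isPrime_of_isPModular hM
  have := Fintype.ofFinite (Subgroup.centralizer (D : Set G))
  have hHfin : Finite H := Finite.of_surjective f hf
  have := Fintype.ofFinite H
  have := Fintype.ofFinite (ConjClasses H)
  by_contra hcon
  push Not at hcon
  have hirr : IsIrrCharacter (Subgroup.centralizer (D : Set G)) ((θ : H → ℂ) ∘ f) :=
    isIrr_comp f hf θ.2
  set ξ : Subgroup.centralizer (D : Set G) → ℂ := (θ : H → ℂ) ∘ f with hξ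
  set cC : ℕ := Nat.card (Subgroup.centralizer (D : Set G)) with hcC
  have hcC0 : (cC : ℂ) ≠ 0 := by exact_mod_cast Nat.card_pos.ne'
  -- `S` factors through `f`
  have hS : ∀ c d, f c = f d → S D ξ c = S D ξ d := by
    intro c d hcd
    unfold S
    refine Finset.sum_congr rfl fun n _ => ?_
    show (θ : H → ℂ) (f (cj D n c)) = (θ : H → ℂ) (f (cj D n d))
    have h1 : f (c * d⁻¹) = 1 := by rw [map_mul, map_inv, hcd, mul_inv_cancel]
    have h2 : (cj D n (c * d⁻¹) : G) ∈ D := by
      have h3 := (hker _).1 h1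
      rw [cj_coe]
      exact (Subgroup.mem_normalizer_iff.1 n.2 _).1 h3
    have h3 := (hker _).2 h2
    rw [map_mul, map_mul, map_inv, map_inv, mul_inv_eq_one] at h3
    rw [h3]
  let F : H → ℂ := fun h => S D ξ (Function.surjInv hf h) / cC
  have hF : ∀ c, F (f c) = S D ξ c / cC := fun c => by
    show S D ξ (Function.surjInv hf (f c)) / cC = _
    rw [hS _ c (Function.surjInv_eq hf (f c))]
  have hFc : IsClassFunction H F := by
    intro g h
    obtain ⟨a, rfl⟩ := hf g
    obtain ⟨b, rfl⟩ := hf h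
    rw [← map_inv, ← map_mul, ← map_mul, hF, hF, isClassFunction_S]
  have hθ' : IsIrrCharacter H (fun h => conj ((θ : H → ℂ) h)) := isIrr_conj θ.2
  have h1 := om_eq_sum_conjClasses hθ' hFc
  have h2 : MemLocalIdeal M (om (fun h => conj ((θ : H → ℂ) h)) F) := by
    rw [h1]
    refine memLocalIdeal_sum fun c _ => ?_
    obtain ⟨a, ha⟩ := hf (Quotient.out c)
    refine memLocalIdeal_mul_right ?_ (memLocalRing_centralChar hθ' _)
    rw [← ha, hF]
    exact hcon a
  have h3 : (∑ h, F h * conj ((θ : H → ℂ) h)) =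
      (Nat.card (stab D ξ) : ℂ) / Nat.card f.ker := by
    have h4 := sum_hom f hf (fun h => F h * conj ((θ : H → ℂ) h))
    have h5 := sum_S D hirr
    have h6 : ∑ c, F (f c) * conj ((θ : H → ℂ) (f c)) = (Nat.card (stab D ξ) : ℂ) := by
      have h7 : ∑ c, F (f c) * conj ((θ : H → ℂ) (f c)) =
          (∑ c, S D ξ c * conj (ξ c)) / cC := by
        rw [Finset.sum_div]
        refine Finset.sum_congr rfl fun c _ => ?_
        rw [hF]
        show S D ξ c / cC * conj (ξ c) = _
        ring
      rw [h7, h5, mul_div_cancel_left₀ _ hcC0]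
    rw [h6] at h4
    have h8 : (Nat.card f.ker : ℂ) ≠ 0 := by exact_mod_cast Nat.card_pos.ne'
    rw [eq_div_iff h8, mul_comm]
    exact h4.symm
  have h9 : conj ((θ : H → ℂ) 1) = (charDegree (θ : H → ℂ) : ℂ) := by
    rw [_root_.Cfsg.Agent.Blocks.Knorr.charDegree_eq θ.2]
    exact Complex.conj_natCast _
  have h10 : om (fun h => conj ((θ : H → ℂ) h)) F =
      ((Nat.card (stab D ξ) : ℕ) : ℂ) / ((Nat.card f.ker * charDegree (θ : H → ℂ) : ℕ) : ℂ) := by
    rw [om_def, h3, h9]
    push_cast
    rw [div_div]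
  rw [h10] at h2
  refine not_mem_ratio hM Nat.card_pos.ne' (mul_ne_zero Nat.card_pos.ne'
    (charDegree_ne_zero θ.2)) ?_ h2
  rw [card_stab D hN (isIrr_isClassFunction hirr),
    Nat.factorization_mul Nat.card_pos.ne' (charDegree_ne_zero θ.2), Finsupp.add_apply, hθ]
  have h11 : Nat.card (Subgroup.centralizer (D : Set G)) = Nat.card f.ker * Nat.card H := by
    rw [← Subgroup.card_mul_index f.ker, Subgroup.index_ker, MonoidHom.range_eq_top.2 hf]
    congr 1
    exact Nat.card_congr Subgroup.topEquiv.toEquiv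
  rw [h11, Nat.factorization_mul Nat.card_pos.ne' Nat.card_pos.ne', Finsupp.add_apply]

/-- `v_p` of the centralizer, from a value outside the maximal ideal. -/
theorem card_centralizer_le (hM : IsPModular p M) {C : Type*} [Group C] [Finite C] {ξ : C → ℂ}
    (hξ : IsIrrCharacter C ξ) {c : C} (h : ¬ MemLocalIdeal M (ξ c)) :
    (Nat.card (Subgroup.centralizer ({c} : Set C))).factorization p +
      (charDegree ξ).factorization p ≤ (Nat.card C).factorization p := by
  by_contra hlt
  push Not at hlt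
  apply h
  have hprime := isPrime_of_isPModular hM
  have h1 := Subgroup.card_mul_index (Subgroup.centralizer ({c} : Set C))
  have hi0 : (Subgroup.centralizer ({c} : Set C)).index ≠ 0 := Subgroup.index_ne_zero_of_finite
  have h2 : (Nat.card C).factorization p =
      (Nat.card (Subgroup.centralizer ({c} : Set C))).factorization p +
        ((Subgroup.centralizer ({c} : Set C)).index).factorization p := by
    rw [← h1, Nat.factorization_mul Nat.card_pos.ne' hi0, Finsupp.add_apply]
  have h3 : ξ c = centralChar ξ c *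
      ((charDegree ξ : ℕ) / ((Subgroup.centralizer ({c} : Set C)).index : ℕ) : ℂ) := by
    have hi0' : ((Subgroup.centralizer ({c} : Set C)).index : ℂ) ≠ 0 := by exact_mod_cast hi0
    have hd0 := isIrr_apply_one_ne_zero hξ
    unfold centralChar
    rw [← _root_.Cfsg.Agent.Blocks.Knorr.charDegree_eq hξ]
    field_simp
  rw [h3]
  exact memLocalIdeal_mul_left (memLocalRing_centralChar hξ c)
    (memLocalIdeal_natCast_div hM hi0 (by omega))

/-- A `p`-subgroup `D` of `Z` with `|C_Z(D)|_p ≤ |D|` and `|N_G(D) : C_G(D)|` prime to `p` is a Sylow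
`p`-subgroup of `Z`. -/
theorem card_le_of_weight (D Z : Subgroup G) (hD : IsPGroup p D) (hDZ : D ≤ Z)
    (hN : ¬ p ∣ (Subgroup.centralizer (D : Set G)).relIndex (Subgroup.normalizer (D : Set G)))
    (hC : (Nat.card (Subgroup.centralizer (D : Set G) ⊓ Z : Subgroup G)).factorization p ≤
      (Nat.card D).factorization p) :
    (Nat.card Z).factorization p = (Nat.card D).factorization p := by
  obtain ⟨d, hd⟩ := (IsPGroup.iff_card).1 hD
  have hd' : (Nat.card D).factorization p = d := by
    rw [hd, hp.out.factorization_pow, Finsupp.single_eq_same]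
  apply le_antisymm
  swap
  · exact (Nat.factorization_le_iff_dvd Nat.card_pos.ne' Nat.card_pos.ne').2
      (Subgroup.card_dvd_of_le hDZ) p
  rw [hd'] at hC ⊢
  by_contra hlt
  push Not at hlt
  have h1 : p ^ (d + 1) ∣ Nat.card Z :=
    (hp.out.pow_dvd_iff_le_factorization Nat.card_pos.ne').2 hlt
  have h2 : Nat.card (D.subgroupOf Z) = p ^ d := by
    rw [← hd]
    exact Nat.card_congr (Subgroup.subgroupOfEquivOfLe hDZ).toEquiv
  have h3 := Sylow.prime_pow_dvd_card_normalizer h1 h2
  -- the normalizer in `Z`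
  have h4 : Nat.card (Subgroup.normalizer ((D.subgroupOf Z : Subgroup Z) : Set Z)) ∣
      Nat.card (Subgroup.normalizer (D : Set G) ⊓ Z : Subgroup G) := by
    have h5 : (Subgroup.normalizer ((D.subgroupOf Z : Subgroup Z) : Set Z)).map Z.subtype ≤
        Subgroup.normalizer (D : Set G) ⊓ Z := by
      rintro _ ⟨n, hn, rfl⟩
      refine ⟨?_, n.2⟩
      show Z.subtype n ∈ Subgroup.normalizer (D : Set G)
      rw [Subgroup.mem_normalizer_iff]
      intro g
      constructor
      · intro hg
        have h6 := (Subgroup.mem_normalizer_iff.1 hn ⟨g, hDZ hg⟩).1 hg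
        exact h6
      · intro hg
        have h7 : g ∈ Z := by
          have h8 := Z.mul_mem (Z.mul_mem (Z.inv_mem n.2) (hDZ hg)) n.2
          have h9 : (n : G)⁻¹ * (Z.subtype n * g * (Z.subtype n)⁻¹) * n = g := by
            show (n : G)⁻¹ * ((n : G) * g * (n : G)⁻¹) * n = g
            group
          rwa [h9] at h8
        exact (Subgroup.mem_normalizer_iff.1 hn ⟨g, h7⟩).2 hg
    have h6 := Subgroup.card_dvd_of_le h5
    rwa [Subgroup.card_map_of_injective Z.subtype_injective] at h6
  have h5 := h3.trans h4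
  -- index
  have hCn : ((Subgroup.centralizer (D : Set G)).subgroupOf
      (Subgroup.normalizer (D : Set G))).Normal := inferInstance
  have hle : Subgroup.centralizer (D : Set G) ≤ Subgroup.normalizer (D : Set G) :=
    Subgroup.centralizer_le_normalizer (D : Set G)
  revert hCn hle
  generalize Subgroup.normalizer (D : Set G) = N at h5 hN ⊢
  generalize Subgroup.centralizer (D : Set G) = C at hC hN ⊢
  intro hCn hle
  have hCZ : C ⊓ (N ⊓ Z) = C ⊓ Z := by rw [← inf_assoc, inf_eq_left.2 hle]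
  have h6 : Nat.card (C ⊓ Z : Subgroup G) * C.relIndex (N ⊓ Z) =
      Nat.card (N ⊓ Z : Subgroup G) := by
    rw [← Subgroup.inf_relIndex_right, hCZ]
    have h7 : C ⊓ Z ≤ N ⊓ Z := inf_le_inf_right Z hle
    rw [← Nat.card_congr (Subgroup.subgroupOfEquivOfLe h7).toEquiv]
    exact Subgroup.card_mul_index _
  have h7 : ¬ p ∣ C.relIndex (N ⊓ Z) := by
    intro h
    apply hN
    refine h.trans ?_
    rw [← Subgroup.relIndex_subgroupOf (inf_le_left : N ⊓ Z ≤ N)]
    exact Subgroup.relIndex_dvd_index_of_normal _ _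
  rw [← h6] at h5
  have h8 : p ^ (d + 1) ∣ Nat.card (C ⊓ Z : Subgroup G) :=
    (Nat.Coprime.pow_left _ ((Nat.Prime.coprime_iff_not_dvd hp.out).2 h7)).dvd_of_dvd_mul_right h5
  have h9 := (hp.out.pow_dvd_iff_le_factorization Nat.card_pos.ne').1 h8
  omega

omit [Fintype (Subgroup.normalizer (D : Set G))] in
/-- Fusion in `C_G(D)`: if `D` is a Sylow `p`-subgroup of `C_G(y)`, then `N_G(D)` controls the fusion
of `y` in `C_G(D)`. -/
theorem exists_cj (hD : IsPGroup p D) {y h : Subgroup.centralizer (D : Set G)}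
    (hZ : (Nat.card (Subgroup.centralizer ({(y : G)} : Set G))).factorization p =
      (Nat.card D).factorization p) (hyh : IsConj (y : G) (h : G)) :
    ∃ n : Subgroup.normalizer (D : Set G), cj D n y = h := by
  obtain ⟨g, hg⟩ := isConj_iff.1 hyh
  set Z := Subgroup.centralizer ({(y : G)} : Set G) with hZdef
  have hmem : ∀ x : G, x ∈ Z ↔ x * y = y * x := fun x => by
    rw [hZdef, Subgroup.mem_centralizer_singleton_iff]
  obtain ⟨d, hd⟩ := (IsPGroup.iff_card).1 hD
  have hd' : (Nat.card D).factorization p = d := by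
    rw [hd, hp.out.factorization_pow, Finsupp.single_eq_same]
  have hDZ : D ≤ Z := by
    intro x hx
    rw [hmem]
    exact Subgroup.mem_centralizer_iff.1 y.2 x hx
  set D2 : Subgroup G := D.map (MulAut.conj g⁻¹).toMonoidHom with hD2
  have hD2Z : D2 ≤ Z := by
    rintro _ ⟨x, hx, rfl⟩
    rw [hmem]
    have h1 : x * (h : G) = h * x := Subgroup.mem_centralizer_iff.1 h.2 x hx
    rw [← hg] at h1
    show g⁻¹ * x * g⁻¹⁻¹ * y = y * (g⁻¹ * x * g⁻¹⁻¹)
    rw [inv_inv]
    calc g⁻¹ * x * g * y = g⁻¹ * (x * (g * y * g⁻¹)) * g := by group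
      _ = g⁻¹ * (g * y * g⁻¹ * x) * g := by rw [h1]
      _ = y * (g⁻¹ * x * g) := by group
  have c1 : Nat.card (D.subgroupOf Z) = p ^ (Nat.card Z).factorization p := by
    rw [hZ, hd', ← hd]
    exact Nat.card_congr (Subgroup.subgroupOfEquivOfLe hDZ).toEquiv
  have c2 : Nat.card (D2.subgroupOf Z) = p ^ (Nat.card Z).factorization p := by
    rw [hZ, hd', ← hd, Nat.card_congr (Subgroup.subgroupOfEquivOfLe hD2Z).toEquiv, hD2]
    exact Subgroup.card_map_of_injective (MulAut.conj g⁻¹).injective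
  let P1 : Sylow p Z := Sylow.ofCard (D.subgroupOf Z) c1
  let P2 : Sylow p Z := Sylow.ofCard (D2.subgroupOf Z) c2
  obtain ⟨z, hz⟩ := MulAction.exists_smul_eq Z P1 P2
  have hz' : ∀ x : Z, x ∈ D.subgroupOf Z → z * x * z⁻¹ ∈ D2.subgroupOf Z := by
    intro x hx
    have h1 : z * x * z⁻¹ ∈ (z • P1 : Sylow p Z) := by
      rw [Sylow.smul_def]
      exact Subgroup.smul_mem_pointwise_smul x (MulAut.conj z) (P1 : Subgroup Z) hx
    rw [hz] at h1
    exact h1
  have key : ∀ x ∈ D, (g * z) * x * (g * z)⁻¹ ∈ D := by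
    intro x hx
    have h1 := hz' ⟨x, hDZ hx⟩ hx
    obtain ⟨w, hw, hwx⟩ := h1
    have h2 : g⁻¹ * w * g⁻¹⁻¹ = (z : G) * x * (z : G)⁻¹ := hwx
    have h3 : (g * z) * x * (g * z)⁻¹ = w := by
      calc (g * z) * x * (g * z)⁻¹ = g * ((z : G) * x * (z : G)⁻¹) * g⁻¹ := by group
        _ = g * (g⁻¹ * w * g⁻¹⁻¹) * g⁻¹ := by rw [h2]
        _ = w := by group
    rw [h3]
    exact hw
  have hnorm : g * z ∈ Subgroup.normalizer (D : Set G) := by
    rw [Subgroup.mem_normalizer_iff]
    -- a finite set mapped into itself by an injective map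
    have hsurj : ∀ x ∈ D, ∃ w ∈ D, (g * z) * w * (g * z)⁻¹ = x := by
      have hinj : Function.Injective (fun x : D => (⟨(g * z) * x * (g * z)⁻¹, key x x.2⟩ : D)) := by
        intro a b hab
        have h1 := congrArg Subtype.val hab
        apply Subtype.ext
        have h2 : (g * z) * a * (g * z)⁻¹ = (g * z) * b * (g * z)⁻¹ := h1
        exact mul_left_cancel (mul_right_cancel h2)
      intro x hx
      obtain ⟨w, hw⟩ := (Finite.injective_iff_surjective.1 hinj) ⟨x, hx⟩
      exact ⟨w, w.2, congrArg Subtype.val hw⟩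
    intro x
    constructor
    · exact key x
    · intro hx
      obtain ⟨w, hw, hwx⟩ := hsurj _ hx
      have : w = x := mul_left_cancel (mul_right_cancel hwx)
      rwa [← this]
  refine ⟨⟨g * z, hnorm⟩, ?_⟩
  apply Subtype.ext
  rw [cj_coe, ← hg]
  have h1 : (z : G) * y = y * z := (hmem z).1 z.2
  show (g * z) * (y : G) * (g * z)⁻¹ = _
  calc (g * z) * (y : G) * (g * z)⁻¹ = g * ((z : G) * y) * (z : G)⁻¹ * g⁻¹ := by group
    _ = g * (y * z) * (z : G)⁻¹ * g⁻¹ := by rw [h1]
    _ = g * y * g⁻¹ := by group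

/-- The induced central character at `y`. -/
theorem induced_eq (hD : IsPGroup p D) {y : Subgroup.centralizer (D : Set G)}
    (hZ : (Nat.card (Subgroup.centralizer ({(y : G)} : Set G))).factorization p =
      (Nat.card D).factorization p) (ξ : Subgroup.centralizer (D : Set G) → ℂ) :
    (Nat.card (Subgroup.normalizer (D : Set G) ⊓ Subgroup.centralizer ({(y : G)} : Set G) :
      Subgroup G) : ℂ) * inducedCentralChar (Subgroup.centralizer (D : Set G)) ξ y =
      S D ξ y / ξ 1 := by
  classical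
  have := Fintype.ofFinite (Subgroup.centralizer (D : Set G))
  have := Fintype.ofFinite (Subgroup.normalizer (D : Set G) ⊓
    Subgroup.centralizer ({(y : G)} : Set G) : Subgroup G)
  unfold inducedCentralChar
  rw [finsum_mem_eq_finite_toFinset_sum _ (Set.toFinite _)]
  set B : Finset (Subgroup.centralizer (D : Set G)) :=
    (Set.toFinite {h : Subgroup.centralizer (D : Set G) | IsConj (y : G) (h : G)}).toFinset with hB
  have hmemB : ∀ h, h ∈ B ↔ IsConj (y : G) (h : G) := fun h => by
    rw [hB, Set.Finite.mem_toFinset, Set.mem_ofPred_eq]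
  unfold S
  rw [Finset.sum_div]
  have h1 : ∀ n : Subgroup.normalizer (D : Set G), cj D n y ∈ B := by
    intro n
    rw [hmemB, isConj_iff]
    exact ⟨n, rfl⟩
  rw [← Finset.sum_fiberwise_of_maps_to (s := Finset.univ) (t := B)
    (g := fun n : Subgroup.normalizer (D : Set G) => cj D n y) (fun n _ => h1 n), Finset.mul_sum]
  refine Finset.sum_congr rfl fun h hh => ?_
  rw [Finset.sum_congr rfl (g := fun _ => ξ h / ξ 1)
    (fun n hn => by rw [(Finset.mem_filter.1 hn).2]), Finset.sum_const, nsmul_eq_mul]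
  congr 1
  obtain ⟨m, hm⟩ := exists_cj D hD hZ ((hmemB h).1 hh)
  have h2 : (Finset.univ.filter fun n : Subgroup.normalizer (D : Set G) => cj D n y = h) =
      Finset.univ.image (fun k : (Subgroup.normalizer (D : Set G) ⊓
        Subgroup.centralizer ({(y : G)} : Set G) : Subgroup G) =>
          m * (⟨k, k.2.1⟩ : Subgroup.normalizer (D : Set G))) := by
    ext n
    simp only [Finset.mem_filter, Finset.mem_univ, true_and, Finset.mem_image]
    constructor
    · intro hn
      refine ⟨⟨((m⁻¹ * n : Subgroup.normalizer (D : Set G)) : G), (m⁻¹ * n).2, ?_⟩, ?_⟩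
      · show ((m⁻¹ * n : Subgroup.normalizer (D : Set G)) : G) ∈
          Subgroup.centralizer ({(y : G)} : Set G)
        rw [Subgroup.mem_centralizer_singleton_iff]
        have h3 : cj D (m⁻¹ * n) y = y := by
          rw [← cj_cj, hn, ← hm, cj_cj, inv_mul_cancel, cj_one]
        have h4 := congrArg Subtype.val h3
        rw [cj_coe] at h4
        exact mul_inv_eq_iff_eq_mul.1 h4
      · apply Subtype.ext
        simp only [_root_.Subgroup.coe_mul, _root_.InvMemClass.coe_inv, _root_.mul_inv_cancel_left]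
    · rintro ⟨k, rfl⟩
      rw [← cj_cj, ← hm]
      congr 1
      apply Subtype.ext
      rw [cj_coe]
      have h3 := Subgroup.mem_centralizer_singleton_iff.1 k.2.2
      show (k : G) * y * (k : G)⁻¹ = y
      rw [h3, mul_inv_cancel_right]
  rw [h2, Finset.card_image_of_injective _ (fun k l hkl => by
    have h3 := mul_left_cancel hkl
    have h4 := congrArg Subtype.val h3
    exact Subtype.ext h4), Finset.card_univ, Nat.card_eq_fintype_card]

end main

section final

variable {G : Type u} [Group G] [Finite G] {p : ℕ} [hp : Fact p.Prime]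

theorem exists_induced {M : Ideal AlgInt} (hM : IsPModular p M) {D : Subgroup G}
    (hD : IsPGroup p D) (ξ : IrrCharacter (Subgroup.centralizer (D : Set G))) (y : G)
    (h : ¬ MemLocalIdeal M (inducedCentralChar (Subgroup.centralizer (D : Set G))
      (ξ : Subgroup.centralizer (D : Set G) → ℂ) y)) :
    ∃ χ : IrrCharacter G, ¬ MemLocalIdeal M (centralChar (χ : G → ℂ) y) := by
  have hprime := isPrime_of_isPModular hM
  obtain ⟨B, hB⟩ := Cfsg.Agent.H649.inducedBlockDefined_centralizer hM hD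
    (Cfsg.Agent.Blocks.Basic.isPBlock_blockOf (M := M) ξ)
  obtain ⟨χ, hχ⟩ := Cfsg.Agent.Blocks.Basic.isPBlock_nonempty hB.2.1
  refine ⟨χ, fun hc => h ?_⟩
  have h4 := hB.2.2 ξ (Cfsg.Agent.Blocks.Basic.mem_blockOf_self ξ) χ hχ y
  exact (memLocalIdeal_iff_of_sub h4).2 hc

/-- **Weights with `p ∤ |N_G(D) : C_G(D)|`**: a defect zero character of `C_G(D) / D` gives a
character of `G` of degree divisible by `|G : D|_p`. -/
theorem exists_of_weight (D : Subgroup G) (hD : IsPGroup p D)
    (hDC : D ≤ Subgroup.centralizer (D : Set G))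
    (hN : ¬ p ∣ (Subgroup.centralizer (D : Set G)).relIndex (Subgroup.normalizer (D : Set G)))
    {H : Type v} [Group H] (f : Subgroup.centralizer (D : Set G) →* H)
    (hf : Function.Surjective f)
    (hker : ∀ c : Subgroup.centralizer (D : Set G), f c = 1 ↔ (c : G) ∈ D)
    (hH : Cfsg.Agent.H665.NoPQ.HasDZ p H) :
    ∃ χ : IrrCharacter G, (Nat.card G).factorization p ≤
      (charDegree (χ : G → ℂ)).factorization p + (Nat.card D).factorization p := by
  classical
  obtain ⟨θ, hθ⟩ := hH
  obtain ⟨M, hM⟩ := exists_isPModular p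
  have hprime := isPrime_of_isPModular hM
  have := Fintype.ofFinite G
  have := Fintype.ofFinite (Subgroup.normalizer (D : Set G))
  have hHfin : Finite H := Finite.of_surjective f hf
  have hirr : IsIrrCharacter (Subgroup.centralizer (D : Set G)) ((θ : H → ℂ) ∘ f) :=
    isIrr_comp f hf θ.2
  obtain ⟨c, hc⟩ := exists_S D hM hN f hf hker θ hθ
  -- a conjugate with nonzero value
  obtain ⟨n, hn⟩ : ∃ n, ¬ MemLocalIdeal M (((θ : H → ℂ) ∘ f) (cj D n c)) := by
    by_contra hcon
    push Not at hcon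
    exact hc (S_div_mem D hM (isIrr_isClassFunction hirr) hcon)
  set y := cj D n c with hy
  have hSy : ¬ MemLocalIdeal M (S D ((θ : H → ℂ) ∘ f) y /
      Nat.card (Subgroup.centralizer (D : Set G))) := by rwa [hy, S_cj]
  have hdeg : charDegree ((θ : H → ℂ) ∘ f) = charDegree (θ : H → ℂ) := by
    unfold charDegree
    rw [Function.comp_apply, map_one]
  have hkerD : Nat.card f.ker = Nat.card D := by
    refine Nat.card_congr ⟨fun k => ⟨((k : Subgroup.centralizer (D : Set G)) : G), (hker _).1 k.2⟩,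
      fun d => ⟨⟨d, hDC d.2⟩, (hker _).2 d.2⟩, fun k => rfl, fun d => rfl⟩
  have hcardC : (Nat.card (Subgroup.centralizer (D : Set G))).factorization p =
      (Nat.card D).factorization p + (Nat.card H).factorization p := by
    have h11 : Nat.card (Subgroup.centralizer (D : Set G)) = Nat.card f.ker * Nat.card H := by
      rw [← Subgroup.card_mul_index f.ker, Subgroup.index_ker, MonoidHom.range_eq_top.2 hf]
      congr 1
      exact Nat.card_congr Subgroup.topEquiv.toEquiv
    rw [h11, Nat.factorization_mul Nat.card_pos.ne' Nat.card_pos.ne', Finsupp.add_apply, hkerD]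
  have h1 := card_centralizer_le hM hirr hn
  rw [hdeg, hθ, hcardC] at h1
  -- `D` is a Sylow subgroup of `C_G(y)`
  set Z := Subgroup.centralizer ({(y : G)} : Set G) with hZdef
  have hDZ : D ≤ Z := by
    intro x hx
    rw [hZdef, Subgroup.mem_centralizer_singleton_iff]
    exact Subgroup.mem_centralizer_iff.1 y.2 x hx
  have hCZ : Nat.card (Subgroup.centralizer ({y} : Set (Subgroup.centralizer (D : Set G)))) =
      Nat.card (Subgroup.centralizer (D : Set G) ⊓ Z : Subgroup G) := by
    refine Nat.card_congr ⟨fun k => ⟨((k : Subgroup.centralizer (D : Set G)) : G), ?_, ?_⟩,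
      fun k => ⟨⟨k, k.2.1⟩, ?_⟩, fun k => rfl, fun k => rfl⟩
    · exact (k : Subgroup.centralizer (D : Set G)).2
    · show _ ∈ Z
      rw [hZdef, Subgroup.mem_centralizer_singleton_iff]
      exact congrArg Subtype.val (Subgroup.mem_centralizer_singleton_iff.1 k.2)
    · rw [Subgroup.mem_centralizer_singleton_iff]
      apply Subtype.ext
      exact Subgroup.mem_centralizer_singleton_iff.1 k.2.2
  have hZ : (Nat.card Z).factorization p = (Nat.card D).factorization p := by
    refine card_le_of_weight D Z hD hDZ hN ?_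
    rw [← hCZ]
    omega
  -- the induced central character does not vanish
  have h2 := induced_eq D hD hZ ((θ : H → ℂ) ∘ f)
  have h3 : ¬ MemLocalIdeal M
      (inducedCentralChar (Subgroup.centralizer (D : Set G)) ((θ : H → ℂ) ∘ f) y) := by
    intro hmem
    apply hSy
    have hNZ : (Nat.card (Subgroup.normalizer (D : Set G) ⊓ Z : Subgroup G)).factorization p =
        (Nat.card D).factorization p := by
      apply le_antisymm
      · rw [← hZ]
        exact (Nat.factorization_le_iff_dvd Nat.card_pos.ne' Nat.card_pos.ne').2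
          (Subgroup.card_dvd_of_le inf_le_right) p
      · exact (Nat.factorization_le_iff_dvd Nat.card_pos.ne' Nat.card_pos.ne').2
          (Subgroup.card_dvd_of_le (le_inf Subgroup.le_normalizer hDZ)) p
    have h4 : S D ((θ : H → ℂ) ∘ f) y / Nat.card (Subgroup.centralizer (D : Set G)) =
        inducedCentralChar (Subgroup.centralizer (D : Set G)) ((θ : H → ℂ) ∘ f) y *
          (((Nat.card (Subgroup.normalizer (D : Set G) ⊓ Z : Subgroup G) *
            charDegree (θ : H → ℂ) : ℕ) : ℂ) /
            ((Nat.card (Subgroup.centralizer (D : Set G)) : ℕ) : ℂ)) := by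
      have h5 : ((θ : H → ℂ) ∘ f) 1 = (charDegree (θ : H → ℂ) : ℂ) := by
        rw [_root_.Cfsg.Agent.Blocks.Knorr.charDegree_eq hirr, hdeg]
      have h6 : (charDegree (θ : H → ℂ) : ℂ) ≠ 0 := by
        exact_mod_cast charDegree_ne_zero θ.2
      rw [h5, eq_div_iff h6] at h2
      rw [← h2]
      push_cast
      ring
    rw [h4]
    refine memLocalIdeal_mul_right hmem (memLocalRing_natCast_div hM Nat.card_pos.ne' ?_)
    rw [Nat.factorization_mul Nat.card_pos.ne' (charDegree_ne_zero θ.2), Finsupp.add_apply, hNZ,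
      hθ, hcardC]
  -- the induced block
  obtain ⟨χ, h5⟩ := exists_induced hM hD ⟨(θ : H → ℂ) ∘ f, hirr⟩ (y : G) h3
  refine ⟨χ, ?_⟩
  by_contra hlt
  push Not at hlt
  apply h5
  apply memLocalIdeal_centralChar_of_lt hM χ.2
  have h6 := Subgroup.card_mul_index Z
  have hi0 : Z.index ≠ 0 := Subgroup.index_ne_zero_of_finite
  have h7 : (Nat.card G).factorization p =
      (Nat.card Z).factorization p + (Z.index).factorization p := by
    rw [← h6, Nat.factorization_mul Nat.card_pos.ne' hi0, Finsupp.add_apply]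
  rw [← hZdef]
  omega

end final

end Cfsg.Agent.H593.IMWeight
end

-- part: H999/ONIMThree
section
/-!
# The O'Nan group: a character of degree divisible by 9 (helper999)

`C(P) = P × L`, `L` simple of order 360, has a character of degree 9; `3` does not divide `|N(P) : C(P)|`.
-/

set_option autoImplicit false
set_option maxRecDepth 100000

namespace Cfsg.Agent.H999.ONIMThree

open Subgroup Cfsg
open Cfsg.Spor (ON)
open Cfsg.Agent.H999.ONThreeHyp
open Cfsg.Agent.ONType.OddCent (XX LL)
open Cfsg.Agent.H665.NoPQ (HasDZ)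
open Cfsg.Agent.H33

theorem hasDZ_psl {F : Type} [Field F] [Fintype F] (hF : Fintype.card F = 9) :
    HasDZ 3 (Matrix.ProjectiveSpecialLinearGroup (Fin 2) F) := by
  have : Fact (Nat.Prime 3) := ⟨Nat.prime_three⟩
  have : CharP F 3 := by
    obtain ⟨p, hp⟩ := CharP.exists F
    have hpp : p.Prime := (CharP.char_is_prime_or_zero F p).resolve_right (CharP.char_ne_zero_of_finite F p)
    have : Fact p.Prime := ⟨hpp⟩
    obtain ⟨n, hn, h⟩ := FiniteField.card F p
    rw [hF] at h
    have h1 : p ∣ 3 ^ 2 := by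
      rw [show 3 ^ 2 = p ^ (n : ℕ) by rw [← h]; norm_num]
      exact dvd_pow_self p n.ne_zero
    have h2 : p = 3 := (Nat.prime_dvd_prime_iff_eq hpp Nat.prime_three).1 (hpp.dvd_of_dvd_pow h1)
    rwa [h2] at hp
  exact Cfsg.Agent.H504.Zeros.hasDZ_of_hasSt
    (Cfsg.Agent.H167.StChar.HasSt.of_hasRGD (Cfsg.Agent.Nodes.RGDClass.hasRGD_PSL 1))

/-- a simple group of order 360 has a character of 3-defect zero -/
theorem hasDZ_360 {H : Type*} [Group H] [Finite H] [IsSimpleGroup H] (h : Nat.card H = 360) : HasDZ 3 H := by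
  have : Fact (Nat.Prime 3) := ⟨Nat.prime_three⟩
  let _ : Fintype (GaloisField 3 2) := Fintype.ofFinite _
  have hF : Fintype.card (GaloisField 3 2) = 9 := by
    rw [← Nat.card_eq_fintype_card, GaloisField.card 3 2 (by norm_num)]
    norm_num
  obtain ⟨e⟩ := Cfsg.Agent.S0254.result hF
  obtain ⟨e'⟩ := Cfsg.Agent.Classification.Order360Iso.nonempty_mulEquiv_alternating (G := H) h
  exact Cfsg.Agent.H713.HasDZ.mulEquiv (e.trans e'.symm) (hasDZ_psl hF)

theorem card_ON : Nat.card ON = 460815505920 := Cfsg.Agent.KFacts.ON.OneClass.card_ON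

theorem card_centralizer : Nat.card ↥(centralizer (P : Set ON)) = 3240 := by
  have := Cfsg.Agent.KFacts.ON.Cent.finite_ON
  exact hyp.card_eq

/-- the centralizer of a nontrivial element of `P` -/
theorem card_cent {x : ON} (hx : x ∈ P) (hx1 : x ≠ 1) : Nat.card ↥(centralizer ({x} : Set ON)) = 3240 := by
  have := Cfsg.Agent.KFacts.ON.Cent.finite_ON
  rw [hyp.centralizer_eq hx hx1, hyp.sup_LL]
  exact hyp.card_eq

theorem not_dvd : ¬ 3 ∣ (centralizer (P : Set ON)).relIndex (normalizer (P : Set ON)) := by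
  intro h
  have hle : centralizer (P : Set ON) ≤ normalizer (P : Set ON) := centralizer_le_normalizer _
  have h1 : Nat.card ↥(centralizer (P : Set ON)) * (centralizer (P : Set ON)).relIndex (normalizer (P : Set ON)) =
      Nat.card ↥(normalizer (P : Set ON)) := by
    have h2 := ((centralizer (P : Set ON)).subgroupOf (normalizer (P : Set ON))).card_mul_index
    rwa [Nat.card_congr (subgroupOfEquivOfLe hle).toEquiv] at h2
  have h3 : Nat.card ↥(normalizer (P : Set ON)) ∣ 460815505920 := card_ON ▸ card_subgroup_dvd_card _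
  obtain ⟨k, hk⟩ := h
  rw [← h1, hk, card_centralizer] at h3
  have h4 : 243 ∣ 460815505920 := by
    refine dvd_trans ⟨40 * k, ?_⟩ h3
    ring
  revert h4
  norm_num

theorem exists_nine : ∃ χ : IrrCharacter ON, 9 ∣ charDegree (χ : ON → ℂ) := by
  have hfin := Cfsg.Agent.KFacts.ON.Cent.finite_ON
  have : Fact (Nat.Prime 3) := ⟨Nat.prime_three⟩
  have hn : (P.subgroupOf (XX P)).Normal := hyp.normal
  have hn' : (P.subgroupOf (centralizer (P : Set ON))).Normal := hyp.normal
  have hs := hyp.simple_LL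
  have h1 : HasDZ 3 (LL P) := hasDZ_360 hyp.card_LL
  obtain ⟨e, -⟩ := hyp.exists_equiv
  have e1 : LL P ≃* commutator (XX P) :=
    ((_root_.commutator (XX P)).equivMapOfInjective _ (XX P).subtype_injective).symm
  have h2 : HasDZ 3 (XX P ⧸ P.subgroupOf (XX P)) := Cfsg.Agent.H713.HasDZ.mulEquiv (e1.trans e) h1
  have hPC : P ≤ centralizer (P : Set ON) := hyp.P_le
  have h3 := Cfsg.Agent.H593.IMWeight.exists_of_weight (p := 3) P
    (IsPGroup.of_card (n := 2) (by rw [card_P]; norm_num)) hPC not_dvd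
    (QuotientGroup.mk' (P.subgroupOf (centralizer (P : Set ON)))) (QuotientGroup.mk'_surjective _)
    (fun c => by
      rw [QuotientGroup.mk'_apply, QuotientGroup.eq_one_iff]
      exact mem_subgroupOf) h2
  obtain ⟨χ, hχ⟩ := h3
  refine ⟨χ, ?_⟩
  have f1 : (Nat.card ON).factorization 3 = 4 := by
    rw [card_ON, show (460815505920 : ℕ) = 3 ^ 4 * 5689080320 by norm_num,
      Nat.factorization_mul (by norm_num) (by norm_num), Nat.Prime.factorization_pow Nat.prime_three,
      Finsupp.add_apply, Finsupp.single_eq_same,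
      Nat.factorization_eq_zero_of_not_dvd (by norm_num : ¬ 3 ∣ 5689080320)]
  have f2 : (Nat.card P).factorization 3 = 2 := by
    rw [card_P, show (9 : ℕ) = 3 ^ 2 by norm_num, Nat.Prime.factorization_pow Nat.prime_three,
      Finsupp.single_eq_same]
  rw [f1, f2] at hχ
  have h0 : charDegree (χ : ON → ℂ) ≠ 0 := by
    intro h0
    rw [h0] at hχ
    simp at hχ
  have h5 := (Nat.prime_three.pow_dvd_iff_le_factorization h0).2 (show 2 ≤ _ by omega)
  exact h5

/-- **`IM 3` for the O'Nan group** -/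
theorem IM_three : IM 3 ON := by
  obtain ⟨χ, hχ⟩ := exists_nine
  exact ⟨χ, dvd_trans (by norm_num) hχ⟩

end Cfsg.Agent.H999.ONIMThree
end
end
end
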