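import Cfsg.Agent.H254.FxTools
import Cfsg.Agent.H376.SpEmb
import Cfsg.Agent.H104.IrrSp
import Cfsg.Agent.Prune
set_option linter.all false
prune_inst 0x7f00000000000000000000000000000000000000000000000000000000000000000000000000000000000000000000000000000000000000000000000000000000000000000000000000000000000000003fffffffffffffffffffffffffffbeffbdffffffff
open scoped Cfsg.Agent.FastGrp

/-!
# Fixity 3 and 4: `PSp_{2m}(q)`, `m ≥ 3`, has no odd TI subgroup (helper999)
-/

set_option autoImplicit false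
set_option linter.style.haveILetI false

namespace Cfsg.Agent.H999.FxPSp

open Matrix Subgroup Cfsg.Agent.H254.Fx

variable {F : Type} [Field F]

/-- the block diagonal embedding -/
def emb (k l : ℕ) (F : Type) [Field F] :
    symplecticGroup (Fin k) F × symplecticGroup (Fin l) F →* symplecticGroup (Fin (k + l)) F :=
  (H376.SpEmb.reidx finSumFinEquiv).comp (H376.SpEmb.blk (Fin k) (Fin l))

theorem emb_injective (k l : ℕ) : Function.Injective (emb k l F) :=
  (H376.SpEmb.reidx_injective _).comp (H376.SpEmb.blk_injective _ _)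

/-- the projection -/
def pr (m : ℕ) (F : Type) [Field F] : symplecticGroup (Fin m) F →* Cfsg.PSp m F :=
  QuotientGroup.mk' (center (symplecticGroup (Fin m) F))

theorem emb_scalar {k l : ℕ} {a : symplecticGroup (Fin k) F} {b : symplecticGroup (Fin l) F} {c : F}
    (h : (emb k l F (a, b)).1 = c • 1) :
    (a : Matrix (Fin k ⊕ Fin k) (Fin k ⊕ Fin k) F) = c • 1 ∧
      (b : Matrix (Fin l ⊕ Fin l) (Fin l ⊕ Fin l) F) = c • 1 := by
  have h1 : (H376.SpEmb.blkM a.1 b.1) = c • 1 := by
    have h2 : (H376.SpEmb.blkM a.1 b.1).submatrix (Equiv.sumCongr finSumFinEquiv finSumFinEquiv).symm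
        (Equiv.sumCongr finSumFinEquiv finSumFinEquiv).symm = c • 1 := h
    ext i j
    have h3 := congrFun (congrFun h2 (Equiv.sumCongr finSumFinEquiv finSumFinEquiv i))
      (Equiv.sumCongr finSumFinEquiv finSumFinEquiv j)
    rw [Matrix.submatrix_apply, Equiv.symm_apply_apply, Equiv.symm_apply_apply] at h3
    rw [h3, Matrix.smul_apply, Matrix.smul_apply, Matrix.one_apply, Matrix.one_apply]
    simp only [EmbeddingLike.apply_eq_iff_eq]
  have h4 : H376.SpEmb.blkM (c • 1 : Matrix (Fin k ⊕ Fin k) (Fin k ⊕ Fin k) F)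
      (c • 1 : Matrix (Fin l ⊕ Fin l) (Fin l ⊕ Fin l) F) = c • 1 := by
    rw [← H376.SpEmb.blkM_one (F := F) (α := Fin k) (β := Fin l)]
    ext (i | i) (j | j) <;> rcases i with i | i <;> rcases j with j | j <;>
      simp [H376.SpEmb.blkM, Matrix.toBlocks₁₁, Matrix.toBlocks₁₂, Matrix.toBlocks₂₁, Matrix.toBlocks₂₂]
  exact H376.SpEmb.blkM_inj (h1.trans h4.symm)

theorem smul_one_ne {n : ℕ} (hn : 1 ≤ n) {c d : F}
    (h : (c • 1 : Matrix (Fin n ⊕ Fin n) (Fin n ⊕ Fin n) F) = d • 1) : c = d := by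
  have h1 := congrFun (congrFun h (Sum.inl ⟨0, hn⟩)) (Sum.inl ⟨0, hn⟩)
  simpa using h1

/-- the first block in `PSp` -/
def i1 (k l : ℕ) (F : Type) [Field F] : symplecticGroup (Fin k) F →* Cfsg.PSp (k + l) F :=
  ((pr (k + l) F).comp (emb k l F)).comp (MonoidHom.inl _ _)

/-- the second block in `PSp` -/
def i2 (k l : ℕ) (F : Type) [Field F] : symplecticGroup (Fin l) F →* Cfsg.PSp (k + l) F :=
  ((pr (k + l) F).comp (emb k l F)).comp (MonoidHom.inr _ _)

theorem i1_injective {k l : ℕ} (hl : 1 ≤ l) : Function.Injective (i1 k l F) := by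
  rw [injective_iff_map_eq_one]
  intro a ha
  have h1 : pr (k + l) F (emb k l F (a, 1)) = 1 := ha
  rw [pr, QuotientGroup.mk'_apply, QuotientGroup.eq_one_iff, LieClassical.SympCenter.mem_center_iff] at h1
  obtain ⟨c, hc⟩ := h1
  obtain ⟨h2, h3⟩ := emb_scalar hc
  have h4 : (1 : F) = c := smul_one_ne hl (by rw [one_smul]; exact h3)
  apply Subtype.ext
  rw [h2, ← h4, one_smul]
  rfl

theorem i2_injective {k l : ℕ} (hk : 1 ≤ k) : Function.Injective (i2 k l F) := by
  rw [injective_iff_map_eq_one]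
  intro b hb
  have h1 : pr (k + l) F (emb k l F (1, b)) = 1 := hb
  rw [pr, QuotientGroup.mk'_apply, QuotientGroup.eq_one_iff, LieClassical.SympCenter.mem_center_iff] at h1
  obtain ⟨c, hc⟩ := h1
  obtain ⟨h2, h3⟩ := emb_scalar hc
  have h4 : (1 : F) = c := smul_one_ne hk (by rw [one_smul]; exact h2)
  apply Subtype.ext
  rw [h3, ← h4, one_smul]
  rfl

theorem i_comm {k l : ℕ} (a : symplecticGroup (Fin k) F) (b : symplecticGroup (Fin l) F) :
    i2 k l F b * i1 k l F a = i1 k l F a * i2 k l F b := by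
  change pr (k + l) F (emb k l F (1, b)) * pr (k + l) F (emb k l F (a, 1)) =
    pr (k + l) F (emb k l F (a, 1)) * pr (k + l) F (emb k l F (1, b))
  rw [← map_mul, ← map_mul, ← map_mul, ← map_mul, Prod.mk_mul_mk, Prod.mk_mul_mk, one_mul, mul_one, one_mul,
    mul_one]

variable [Fintype F]

/-- an element of the first block is bad if the second block has order divisible by `8` -/
theorem bad_i1 {k l : ℕ} (hk : 1 ≤ k) (a : symplecticGroup (Fin k) F)
    (h8 : 8 ∣ Nat.card (symplecticGroup (Fin l) F)) : Bad (i1 k l F a) := by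
  refine bad_of_comm_eight (Y := (i2 k l F).range) ?_ ?_
  · rintro _ ⟨b, rfl⟩
    exact i_comm a b
  · rw [← Nat.card_congr (MonoidHom.ofInjective (i2_injective (F := F) (l := l) hk)).toEquiv]
    exact h8

theorem card_one : Nat.card (symplecticGroup (Fin 1) F) = Fintype.card F * (Fintype.card F ^ 2 - 1) := by
  rw [LieClassical.SympCount.card_symplecticGroup]
  simp only [_root_.one_pow, _root_.pow_one, _root_.Finset.range_one, _root_.Finset.prod_singleton, _root_.zero_add, _root_.mul_one]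

theorem two_dvd_card {l : ℕ} (hl : 1 ≤ l) : 2 ∣ Nat.card (symplecticGroup (Fin l) F) := by
  rw [LieClassical.SympCount.card_symplecticGroup]
  rcases Nat.even_or_odd (Fintype.card F) with h | h
  · exact Dvd.dvd.mul_right ((even_iff_two_dvd.1 h).pow (by positivity)) _
  · refine Dvd.dvd.mul_left ?_ _
    refine dvd_trans ?_ (Finset.dvd_prod_of_mem _ (Finset.mem_range.2 (Nat.lt_of_lt_of_le Nat.zero_lt_one hl)))
    rw [← even_iff_two_dvd]
    exact Nat.Odd.sub_odd (h.pow) odd_one

theorem eight_dvd_card {l : ℕ} (hl : 2 ≤ l) : 8 ∣ Nat.card (symplecticGroup (Fin l) F) := by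
  rw [LieClassical.SympCount.card_symplecticGroup]
  rcases Nat.even_or_odd (Fintype.card F) with h | h
  · refine Dvd.dvd.mul_right ?_ _
    have h1 : 2 ^ 3 ∣ Fintype.card F ^ 3 := pow_dvd_pow_of_dvd (even_iff_two_dvd.1 h) 3
    exact dvd_trans h1 (pow_dvd_pow _ (by nlinarith))
  · refine Dvd.dvd.mul_left ?_ _
    refine dvd_trans ?_ (Finset.dvd_prod_of_mem _ (Finset.mem_range.2 (by omega : 0 < l)))
    rw [zero_add, mul_one]
    exact Nat.eight_dvd_sq_sub_one_of_odd h

theorem card_center_dvd {m : ℕ} (hm : 1 ≤ m) :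
    Nat.card (center (symplecticGroup (Fin m) F)) ∣ 2 := by
  rw [LieClassical.SympCenter.card_center hm]
  exact Nat.gcd_dvd_left _ _

omit [Fintype F] in
theorem card_psp {m : ℕ} : Nat.card (symplecticGroup (Fin m) F) =
    Nat.card (Cfsg.PSp m F) * Nat.card (center (symplecticGroup (Fin m) F)) :=
  Subgroup.card_eq_card_quotient_mul_card_subgroup _

theorem three_dvd (n : ℕ) : 3 ∣ n ∨ 3 ∣ n ^ 2 - 1 := by
  by_cases h : 3 ∣ n
  · exact Or.inl h
  right
  have h1 : n % 3 = 1 ∨ n % 3 = 2 := by omega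
  have h2 : n ^ 2 % 3 = 1 := by
    rw [pow_two, Nat.mul_mod]
    rcases h1 with h1 | h1 <;> rw [h1]
  omega

theorem pow_sub_one_dvd {q a b : ℕ} (h : a ∣ b) : q ^ a - 1 ∣ q ^ b - 1 := by
  obtain ⟨c, rfl⟩ := h
  rw [pow_mul]
  simpa only [_root_.one_pow] using Nat.sub_dvd_pow_sub_pow (q ^ a) 1 c

theorem twentyseven_dvd {m : ℕ} (hm : 3 ≤ m) : 27 ∣ Nat.card (Cfsg.PSp m F) := by
  have h1 : 27 ∣ Nat.card (symplecticGroup (Fin m) F) := by
    rw [LieClassical.SympCount.card_symplecticGroup]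
    rcases three_dvd (Fintype.card F) with h | h
    · refine Dvd.dvd.mul_right ?_ _
      have h1 : 3 ^ 3 ∣ Fintype.card F ^ 3 := pow_dvd_pow_of_dvd h 3
      exact dvd_trans h1 (pow_dvd_pow _ (by nlinarith))
    · refine Dvd.dvd.mul_left ?_ _
      have h2 : ∏ i ∈ Finset.range 3, (Fintype.card F ^ (2 * (i + 1)) - 1) ∣
          ∏ i ∈ Finset.range m, (Fintype.card F ^ (2 * (i + 1)) - 1) :=
        Finset.prod_dvd_prod_of_subset _ _ _ (Finset.range_subset_range.2 hm)
      refine dvd_trans ?_ h2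
      rw [Finset.prod_range_succ, Finset.prod_range_succ, Finset.prod_range_succ, Finset.prod_range_zero, one_mul]
      have h3 : ∀ i, 3 ∣ Fintype.card F ^ (2 * (i + 1)) - 1 := fun i =>
        dvd_trans h (pow_sub_one_dvd (Dvd.intro _ rfl))
      exact mul_dvd_mul (mul_dvd_mul (h3 0) (h3 1)) (h3 2)
  rw [card_psp] at h1
  refine Nat.Coprime.dvd_of_dvd_mul_right ?_ h1
  exact Nat.Coprime.coprime_dvd_right (card_center_dvd (by omega)) (by norm_num)

/-- a prime dividing `q (q ^ 2 - 1)`: an element of the block `Sp_2(q)` -/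
theorem exists_i1 {r l : ℕ} (hr : r.Prime) (hl : 2 ≤ l)
    (hd : r ∣ Fintype.card F * (Fintype.card F ^ 2 - 1)) :
    ∃ x : Cfsg.PSp (1 + l) F, orderOf x = r ∧ Bad x := by
  haveI : Fact r.Prime := ⟨hr⟩
  rw [← card_one] at hd
  obtain ⟨a, ha⟩ := exists_prime_orderOf_dvd_card' r hd
  refine ⟨i1 1 l F a, ?_, bad_i1 le_rfl a (eight_dvd_card hl)⟩
  rw [orderOf_injective _ (i1_injective (by omega)), ha]

/-- powers -/
theorem exists_conj_pow {r m : ℕ} (hr : r.Prime) (hrF : (r : F) ≠ 0) {x : symplecticGroup (Fin m) F}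
    (hx : x ^ r = 1) {j : ℕ} (hj : (j : ZMod r) = (Fintype.card F : ZMod r) ∨
      (j : ZMod r) = -(Fintype.card F : ZMod r)) : ∃ u : symplecticGroup (Fin m) F, u * x * u⁻¹ = x ^ j := by
  haveI : Fact r.Prime := ⟨hr⟩
  obtain ⟨ζ, hζ⟩ := H193.ClassCount.exists_root (F := F) hr hrF
  obtain ⟨w, hw⟩ := H193.ClassCount.exists_unit (H104.RankBound.card_ne_zero (p := r) (F := F) hrF)
  obtain ⟨h1, h1'⟩ := (H193.RealForm.inv_gen_iff w _).1 (H104.IrrSp.sp_inv hζ w hw hx)
  have hj0 : (j : ZMod r) ≠ 0 := by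
    rcases hj with h | h <;> rw [h]
    · rw [← hw]; exact w.ne_zero
    · rw [neg_ne_zero, ← hw]; exact w.ne_zero
  have hM : ((H104.IrrSp.spGL m F x : GL (Fin m ⊕ Fin m) F) : Matrix (Fin m ⊕ Fin m) (Fin m ⊕ Fin m) F) ^ r = 1 := by
    rw [← Units.val_pow_eq_pow_val, ← map_pow, hx, map_one, Units.val_one]
  have hty : H193.Types.ty (r := r) ζ ((H104.IrrSp.spGL m F x : GL (Fin m ⊕ Fin m) F) : Matrix (Fin m ⊕ Fin m) (Fin m ⊕ Fin m) F) =
      H193.Types.ty ζ ((H104.IrrSp.spGL m F (x ^ j) : GL (Fin m ⊕ Fin m) F) : Matrix (Fin m ⊕ Fin m) (Fin m ⊕ Fin m) F) := by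
    funext d
    have h2 := H104.AtomTypes.ty_pow hζ hM hj0 ((j : ZMod r)⁻¹ * d)
    rw [mul_inv_cancel_left₀ hj0] at h2
    rw [map_pow, Units.val_pow_eq_pow_val, h2]
    have h3 : ∀ c, H193.Types.ty (r := r) ζ ((H104.IrrSp.spGL m F x : GL (Fin m ⊕ Fin m) F) : Matrix (Fin m ⊕ Fin m) (Fin m ⊕ Fin m) F)
        ((j : ZMod r) * c) = H193.Types.ty (r := r) ζ ((H104.IrrSp.spGL m F x : GL (Fin m ⊕ Fin m) F) : Matrix (Fin m ⊕ Fin m) (Fin m ⊕ Fin m) F) c := by
      intro c
      rcases hj with h | h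
      · rw [h, ← hw]; exact h1 c
      · rw [h, ← hw, neg_mul, h1']; exact h1 c
    have h4 := h3 ((j : ZMod r)⁻¹ * d)
    rw [mul_inv_cancel_left₀ hj0] at h4
    exact h4
  obtain ⟨u, hu⟩ := isConj_iff.1 (H104.IrrSp.sp_conj hζ hx (by rw [← pow_mul, mul_comm, pow_mul, hx, one_pow]) hty)
  exact ⟨u, hu⟩

/-- **`PSp_{2m}(q)`, `m ≥ 3`, has no odd TI subgroup.** -/
theorem no34_psp {m : ℕ} (hm : 3 ≤ m) (F : Type) [Field F] [Fintype F] : No34 (Cfsg.PSp m F) := by
  refine no34_of (fun _ => ?_) ?_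
  · obtain ⟨l, rfl⟩ := Nat.exists_eq_add_of_le (show 1 ≤ m by omega)
    obtain ⟨x, hx, hb⟩ := exists_i1 (F := F) (l := l) Nat.prime_three (by omega) (by
      rcases three_dvd (Fintype.card F) with h | h
      · exact Dvd.dvd.mul_right h _
      · exact Dvd.dvd.mul_left h _)
    exact bad3_of_card hx hb (Or.inl (twentyseven_dvd hm))
  · intro r hr h5 hrd
    left
    haveI : Fact r.Prime := ⟨hr⟩
    by_cases hA : r ∣ Fintype.card F * (Fintype.card F ^ 2 - 1)
    · obtain ⟨l, rfl⟩ := Nat.exists_eq_add_of_le (show 1 ≤ m by omega)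
      obtain ⟨x, hx, hb⟩ := exists_i1 (F := F) (l := l) hr (by omega) hA
      exact killAll_of_bad hx hb
    -- `r` is prime to `q (q ^ 2 - 1)`
    have hq : 1 < Fintype.card F := Fintype.one_lt_card
    have hrq : ¬ r ∣ Fintype.card F := fun h => hA (Dvd.dvd.mul_right h _)
    have hrF : (r : F) ≠ 0 := by
      intro h0
      obtain ⟨p, hp⟩ := CharP.exists F
      haveI hpp : Fact p.Prime := ⟨CharP.char_is_prime F p⟩
      rw [CharP.cast_eq_zero_iff F p] at h0
      have hpr : p = r := (Nat.prime_dvd_prime_iff_eq hpp.out hr).1 h0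
      obtain ⟨n, -, hn⟩ := FiniteField.card F p
      apply hrq
      rw [hn, hpr]
      exact dvd_pow_self _ n.ne_zero
    set Q : ZMod r := (Fintype.card F : ZMod r) with hQ
    have hQ0 : Q ≠ 0 := by
      rw [hQ, Ne, ZMod.natCast_eq_zero_iff]; exact hrq
    have hQ2 : Q ^ 2 ≠ 1 := by
      intro h
      apply hA
      refine Dvd.dvd.mul_left ?_ _
      rw [← ZMod.natCast_eq_zero_iff, Nat.cast_sub (Nat.one_le_pow _ _ (by omega)), Nat.cast_pow, ← hQ, h]
      simp
    -- a general element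
    have hrS : r ∣ Nat.card (symplecticGroup (Fin m) F) := by
      rw [card_psp]; exact Dvd.dvd.mul_right hrd _
    by_cases hB : Q ^ 2 = -1
    · obtain ⟨l, rfl⟩ := Nat.exists_eq_add_of_le (show 2 ≤ m by omega)
      have hd4 : r ∣ Nat.card (symplecticGroup (Fin 2) F) := by
        rw [LieClassical.SympCount.card_symplecticGroup]
        refine Dvd.dvd.mul_left ?_ _
        refine dvd_trans ?_ (Finset.dvd_prod_of_mem _ (Finset.mem_range.2 (by norm_num : 1 < 2)))
        rw [← ZMod.natCast_eq_zero_iff, Nat.cast_sub (Nat.one_le_pow _ _ (by omega)), Nat.cast_pow, ← hQ]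
        have : Q ^ (2 * (1 + 1)) = 1 := by
          rw [pow_mul, hB]; norm_num
        rw [this]; simp
      obtain ⟨a, ha⟩ := exists_prime_orderOf_dvd_card' r hd4
      obtain ⟨t, ht⟩ := exists_prime_orderOf_dvd_card' 2 (two_dvd_card (F := F) (l := l) (by omega))
      obtain ⟨u, hu⟩ := exists_conj_pow hr hrF (x := a) (by rw [← ha]; exact pow_orderOf_eq_one a)
        (j := Fintype.card F) (Or.inl rfl)
      have hx : orderOf (i1 2 l F a) = r := by
        rw [orderOf_injective _ (i1_injective (by omega)), ha]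
      refine killAll_of_bad hx ?_
      refine bad_of_four hr hx (u := i1 2 l F u) (j := Fintype.card F) (by rw [← map_pow, ← hu]; simp only [_root_.map_mul, _root_.map_inv]) ?_
        (t := i2 2 l F t) (by rw [orderOf_injective _ (i2_injective (by omega)), ht]) (i_comm a t)
      rw [← hQ]
      have h1 : orderOf Q = 2 ^ (1 + 1) := by
        refine orderOf_eq_prime_pow ?_ ?_
        · rw [pow_one]; exact hQ2
        · rw [show (2 : ℕ) ^ (1 + 1) = 2 * 2 by norm_num, pow_mul, hB]; norm_num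
      rw [h1]
      norm_num
    · obtain ⟨a, ha⟩ := exists_prime_orderOf_dvd_card' r hrS
      have har : a ^ r = 1 := by rw [← ha]; exact pow_orderOf_eq_one a
      have hx : orderOf (pr m F a) = r := by
        apply orderOf_eq_prime
        · rw [← map_pow, har, map_one]
        · intro h
          have h1 := H104.RowPSp.center_free (m := m) (F := F) (by omega) hr (by omega) a har h
          rw [h1, orderOf_one] at ha
          omega
      by_cases h3 : Q ^ 3 = 1
      · obtain ⟨u, hu⟩ := exists_conj_pow hr hrF har (j := (-Q).val) (Or.inr (by rw [ZMod.natCast_zmod_val]))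
        refine killAll_of_hom (pr m F) hx hu ?_ ?_
        · intro h
          have h1 := (ZMod.natCast_eq_natCast_iff _ _ _).2 h
          rw [Nat.cast_pow, ZMod.natCast_zmod_val, Nat.cast_one] at h1
          have h2 : (2 : ZMod r) = 0 := by
            linear_combination -h1 - h3
          have h4 : ((2 : ℕ) : ZMod r) = 0 := by rw [Nat.cast_ofNat]; exact h2
          rw [ZMod.natCast_eq_zero_iff] at h4
          have := Nat.le_of_dvd (by norm_num) h4
          omega
        · intro h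
          have h1 := (ZMod.natCast_eq_natCast_iff _ _ _).2 h
          rw [Nat.cast_pow, ZMod.natCast_zmod_val, Nat.cast_one] at h1
          have h2 : Q = 1 := by linear_combination h1 - Q * h3
          exact hQ2 (by rw [h2, one_pow])
      · obtain ⟨u, hu⟩ := exists_conj_pow hr hrF har (j := Fintype.card F) (Or.inl rfl)
        refine killAll_of_hom (pr m F) hx hu ?_ ?_
        · intro h
          have h1 := (ZMod.natCast_eq_natCast_iff _ _ _).2 h
          rw [Nat.cast_pow, Nat.cast_one] at h1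
          exact h3 h1
        · intro h
          have h1 := (ZMod.natCast_eq_natCast_iff _ _ _).2 h
          rw [Nat.cast_pow, Nat.cast_one, ← hQ] at h1
          have h2 : (Q ^ 2 - 1) * (Q ^ 2 + 1) = 0 := by linear_combination h1
          rcases mul_eq_zero.1 h2 with h3 | h3
          · exact hQ2 (sub_eq_zero.1 h3)
          · exact hB (eq_neg_of_add_eq_zero_left h3)

end Cfsg.Agent.H999.FxPSp

private theorem dce_bbdd078f47a5 : _root_.True := by
  try have : _root_.True := by simp only [_root_.Matrix.toBlocks₁₁.eq_1]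
  try have : _root_.True := by simp only [_root_.Cfsg.Agent.H999.FxPSp.pr.eq_1]
  exact _root_.True.intro
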