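import Mathlib
import Cfsg.Agent.ClassicalGeometry.AutPSL.Main
import Cfsg.Agent.LFourB.FixQuat
import Cfsg.Agent.Prune
set_option linter.all false
prune_inst 0x7f00000000000000000000000000000000000000000000000000000000000000000000000000000000000000000000000000000000000000000000000000000000000000000000000000000000000000003fffffffffffffffffffffffffffbeffbdffffffff
open scoped Cfsg.Agent.FastGrp

/-!
# Automorphisms of `SL₂(p)` and `PSL₂(p)` (helper999, task 519 for S3924)

`psl_sq`, `sl_sq` : `F` a field of prime order (odd in the second case), `α` an automorphism of `PSL₂(F)` (`SL₂(F)`).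
Then `α * conj l` has square `1` for some `l`.
-/

set_option autoImplicit false

namespace Cfsg.Agent.H999.HgSplitA

open Matrix
open Cfsg.Agent.ClassicalGeometry.AutPSL.Root
open Cfsg.Agent.ClassicalGeometry.AutPSL.Auto
open Cfsg.Agent.ClassicalGeometry.AutPSL.Main

variable {F : Type*} [Field F]

theorem ringAut_eq_one {p : ℕ} [Fact p.Prime] [CharP F p] [Fintype F] (hF : Fintype.card F = p) (σ : F ≃+* F) :
    σ = 1 := by
  let e : ZMod p ≃+* F := ZMod.ringEquiv F hF
  apply RingEquiv.ext
  intro x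
  obtain ⟨y, rfl⟩ := e.surjective x
  change σ (e y) = e y
  have h : (σ : F →+* F).comp (e : ZMod p →+* F) = (e : ZMod p →+* F) := Subsingleton.elim _ _
  exact RingHom.congr_fun h y

/-- the matrix `(0 -δ; 1 0)` -/
def wd (δ : F) : Matrix (Fin 2) (Fin 2) F := !![0, -δ; 1, 0]

theorem det_wd (δ : F) : (wd δ).det = δ := by
  simp [wd, det_fin_two]

theorem wd_mul_wd (δ : F) : wd δ * wd δ = scalar (Fin 2) (-δ) := by
  ext i j
  fin_cases i <;> fin_cases j <;> simp [wd, Matrix.mul_apply, Fin.sum_univ_two]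

/-- the element of `GL₂` -/
noncomputable def wg (δ : F) (hδ : δ ≠ 0) : GL (Fin 2) F :=
  Matrix.GeneralLinearGroup.mkOfDetNeZero (wd δ) (by rw [det_wd]; exact hδ)

theorem cj_wg_sq (δ : F) (hδ : δ ≠ 0) : cj (wg δ hδ) * cj (wg δ hδ) = 1 := by
  rw [← map_mul]
  exact cj_eq_one_of_scalar (r := -δ) (wd_mul_wd δ).symm

theorem cj_sl (B : Matrix.SpecialLinearGroup (Fin 2) F) :
    cj (Matrix.SpecialLinearGroup.toGL B) = MulAut.conj B := by
  apply MulEquiv.ext
  intro g
  apply Subtype.ext
  rw [coe_cj, MulAut.conj_apply]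
  rfl

/-- every diagonal automorphism is an involution times an inner automorphism -/
theorem exists_conj (A : GL (Fin 2) F) : ∃ B : Matrix.SpecialLinearGroup (Fin 2) F,
    (cj A * MulAut.conj B) * (cj A * MulAut.conj B) = 1 := by
  set δ : F := (A : Matrix (Fin 2) (Fin 2) F).det with hδ
  have hδ0 : δ ≠ 0 := by
    have := A.det.ne_zero
    exact this
  have hdet : ((A⁻¹ * wg δ hδ0 : GL (Fin 2) F) : Matrix (Fin 2) (Fin 2) F).det = 1 := by
    have h1 : ((A⁻¹ * wg δ hδ0 : GL (Fin 2) F) : Matrix (Fin 2) (Fin 2) F) =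
      ((A⁻¹ : GL (Fin 2) F) : Matrix (Fin 2) (Fin 2) F) * wd δ := rfl
    have h2 : ((A⁻¹ : GL (Fin 2) F) : Matrix (Fin 2) (Fin 2) F).det * δ = 1 := by
      rw [hδ, ← det_mul, ← Units.val_mul, inv_mul_cancel, Units.val_one, det_one]
    rw [h1, det_mul, det_wd, h2]
  obtain ⟨B, hB⟩ : ∃ B : Matrix.SpecialLinearGroup (Fin 2) F,
      (B : Matrix (Fin 2) (Fin 2) F) = ((A⁻¹ * wg δ hδ0 : GL (Fin 2) F) : Matrix (Fin 2) (Fin 2) F) :=
    ⟨⟨_, hdet⟩, rfl⟩
  refine ⟨B, ?_⟩
  have h3 : Matrix.SpecialLinearGroup.toGL B = A⁻¹ * wg δ hδ0 := by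
    apply Units.ext
    exact hB
  rw [← cj_sl, h3, ← map_mul, mul_inv_cancel_left]
  exact cj_wg_sq δ hδ0

theorem psl_sq {p : ℕ} [Fact p.Prime] [Fintype F] (hF : Fintype.card F = p)
    (α : MulAut (Matrix.ProjectiveSpecialLinearGroup (Fin 2) F)) :
    ∃ l, (α * MulAut.conj l) * (α * MulAut.conj l) = 1 := by
  have : CharP F p := charP_of_card_eq_prime hF
  obtain ⟨A, σ, rfl⟩ := surj_two p α
  obtain rfl := ringAut_eq_one hF σ
  obtain ⟨B, hB⟩ := exists_conj A
  refine ⟨pr B, ?_⟩
  have h1 : MulAut.conj (pr B) = lift (MulAut.conj B) := by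
    apply MulEquiv.ext
    intro x
    obtain ⟨x, rfl⟩ := pr_surjective x
    rfl
  rw [h1, map_one, mul_one, ← map_mul, ← map_mul, hB, map_one]

theorem eq_one_of_lift {p : ℕ} [Fact p.Prime] [Fintype F] (hF : Fintype.card F = p) (hp : Odd p)
    (β : MulAut (Matrix.SpecialLinearGroup (Fin 2) F)) (hβ : lift β = 1) : β = 1 := by
  have : CharP F p := charP_of_card_eq_prime hF
  have h2 : (2 : F) ≠ 0 := by
    intro h
    have h3 : ((2 : ℕ) : F) = 0 := by exact_mod_cast h
    rw [CharP.cast_eq_zero_iff F p] at h3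
    rcases (Nat.dvd_prime Nat.prime_two).1 h3 with h4 | h4
    · exact (Fact.out : p.Prime).one_lt.ne' h4
    · rw [h4] at hp
      exact absurd hp (by decide)
  have h1 : ∀ x, β x = x ∨ β x = -x := by
    intro x
    have h3 : pr (β x) = pr x := by
      rw [← lift_pr, hβ]; rfl
    have h4 : x⁻¹ * β x ∈ Subgroup.center (Matrix.SpecialLinearGroup (Fin 2) F) := by
      rw [← pr_eq_one_iff, map_mul, map_inv, h3, inv_mul_cancel]
    rw [Cfsg.Agent.LFourA.AutTwo.mem_center_iff' h2, inv_mul_eq_iff_eq_mul, inv_mul_eq_iff_eq_mul, mul_one,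
      mul_neg, mul_one] at h4
    exact h4
  have h0 : ∀ (i j : Fin 2) (hij : i ≠ j) (c : F), β (Matrix.SpecialLinearGroup.transvection hij c) =
      Matrix.SpecialLinearGroup.transvection hij c := by
    intro i j hij c
    rcases h1 (Matrix.SpecialLinearGroup.transvection hij c) with h | h
    · exact h
    · exfalso
      set t := Matrix.SpecialLinearGroup.transvection hij c with ht
      have h5 : t ^ p = 1 := by
        have h8 : ∀ n : ℕ, ((t ^ n : Matrix.SpecialLinearGroup (Fin 2) F) : Matrix (Fin 2) (Fin 2) F) =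
            Matrix.transvection i j ((n : F) * c) := by
          intro n
          induction n with
          | zero => rw [pow_zero, Nat.cast_zero, zero_mul, Matrix.transvection_zero]; rfl
          | succ n ih =>
            rw [pow_succ, Matrix.SpecialLinearGroup.coe_mul, ih, ht]
            change Matrix.transvection i j _ * Matrix.transvection i j c = _
            rw [Matrix.transvection_mul_transvection_same _ _ hij, Nat.cast_succ, add_mul, one_mul]
        apply Subtype.ext
        refine (h8 p).trans ?_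
        rw [CharP.cast_eq_zero, zero_mul, Matrix.transvection_zero]
        rfl
      have h6 : β (t ^ p) = -1 := by
        rw [map_pow, h, hp.neg_pow, h5]
      rw [h5, map_one] at h6
      have h7 := congrArg (fun x : Matrix.SpecialLinearGroup (Fin 2) F => (x : Matrix (Fin 2) (Fin 2) F) 0 0) h6
      simp at h7
      apply h2
      linear_combination h7
  apply MulEquiv.ext
  intro x
  refine Cfsg.Agent.LieClassical.SLGen.transvection_induction
    (fun x => β x = x) (fun i j hij c => h0 i j hij c) (fun A B hA hB => ?_) x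
  rw [map_mul, hA, hB]

theorem sl_sq {p : ℕ} [Fact p.Prime] [Fintype F] (hF : Fintype.card F = p) (hp : Odd p)
    (α : MulAut (Matrix.SpecialLinearGroup (Fin 2) F)) :
    ∃ l, (α * MulAut.conj l) * (α * MulAut.conj l) = 1 := by
  have : CharP F p := charP_of_card_eq_prime hF
  obtain ⟨A, σ, hA⟩ := surj_two p (lift α)
  obtain rfl := ringAut_eq_one hF σ
  rw [map_one, mul_one] at hA
  have h1 : (cj A)⁻¹ * α = 1 := by
    apply eq_one_of_lift hF hp
    rw [map_mul, map_inv, hA, inv_mul_cancel]
  rw [inv_mul_eq_one] at h1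
  subst h1
  exact exists_conj A

end Cfsg.Agent.H999.HgSplitA

private theorem dce_ebd2abe5fe77 : _root_.True := by
  try have : _root_.True := by simp only [_root_.Cfsg.Agent.H999.HgSplitA.wd.eq_1]
  exact _root_.True.intro
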