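import Cfsg.Agent.H999.ONFiveCent
import Cfsg.Agent.H492.IMPair_m3
import Cfsg.Agent.H701.SporON
import Cfsg.Agent.FastGrp
import Cfsg.Agent.Prune
set_option linter.all false
prune_inst 0x7f00000000000000000000000000000000000000000000000000000000000000000000000000000000000000000000000000000000000000000000000000000000000000000000000000000000000000003fffffffffffffffffffffffffffbeffbdffffffff
open scoped Cfsg.Agent.FastGrp

/-!
# The Itô-Michler theorem for the O'Nan group, p = 5 (helper999)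

* `numCls_le_conj` : for a Sylow subgroup `⟨x⟩` of prime order the number `m` is at most the number of `G`-classes
  which meet `C(x)` in `p'`-elements;
* `IM_five : IM 5 ON`.
-/

set_option autoImplicit false
set_option maxRecDepth 100000

namespace Cfsg.Agent.H999.ONIMFive

open Subgroup Cfsg
open Cfsg.Spor (ON)
open Cfsg.Agent.SporadicB.ON45Word (on)
open Cfsg.Agent.KFacts.ON.Words (hs vv v va vb vd)
open Cfsg.Agent.KFacts.ON.Struct
open Cfsg.Agent.KFacts.ON.Cent (hON finite_ON cen card_K0)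
open Cfsg.Agent.ONType.TupK (K0)
open Cfsg.Agent.KFacts.MulSpor.ON (w w_append w_one w_cons w_iw iw)
open Cfsg.Agent.H999.ONIMThree (card_ON)
open Cfsg.Agent.H593.IMCyc Cfsg.Agent.H33 Cfsg.Agent.H713 Cfsg.Agent.H713.Count Cfsg.Agent.H665.NoPQ

universe u

section numCls

variable {G : Type u} [Group G] [Finite G] {p : ℕ} [hp : Fact p.Prime]

/-- two elements of `C(x)` conjugate in `G` are conjugate in `N(⟨x⟩)` -/
theorem fuse (hG : (Nat.card G).factorization p = 1) {x a b : G} (hx : orderOf x = p)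
    (ha : a * x = x * a) (hb : b * x = x * b) (hab : IsConj a b) :
    ∃ n ∈ normalizer (zpowers x : Set G), n * a * n⁻¹ = b := by
  obtain ⟨g, hg⟩ := isConj_iff.1 hab
  have hxC : x ∈ centralizer ({b} : Set G) := mem_centralizer_singleton_iff.2 hb.symm
  have hgC : g * x * g⁻¹ ∈ centralizer ({b} : Set G) := by
    rw [mem_centralizer_singleton_iff, ← hg]
    calc g * x * g⁻¹ * (g * a * g⁻¹) = g * (x * a) * g⁻¹ := by group
      _ = g * (a * x) * g⁻¹ := by rw [ha]
      _ = g * a * g⁻¹ * (g * x * g⁻¹) := by group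
  have hC : (Nat.card ↥(centralizer ({b} : Set G))).factorization p = 1 := by
    have h1 : (Nat.card ↥(centralizer ({b} : Set G))).factorization p ≤ 1 := by
      rw [← hG]
      exact (Nat.factorization_le_iff_dvd Nat.card_pos.ne' Nat.card_pos.ne').2
        (card_subgroup_dvd_card (centralizer ({b} : Set G))) p
    have h2 : p ∣ Nat.card ↥(centralizer ({b} : Set G)) := by
      have h3 := _root_.orderOf_dvd_natCard (⟨x, hxC⟩ : ↥(centralizer ({b} : Set G)))
      rwa [Subgroup.orderOf_mk, hx] at h3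
    have h3 := (hp.out.dvd_iff_one_le_factorization Nat.card_pos.ne').1 h2
    omega
  have h1 := Cfsg.Agent.H724.IMTool.mk_mem_sing (p := p) hC (y := ⟨x, hxC⟩) (c := ⟨g * x * g⁻¹, hgC⟩)
    (by rw [Subgroup.orderOf_mk, hx]) (by
      rw [Subgroup.orderOf_mk, ← hx]
      exact MulEquiv.orderOf_eq (MulAut.conj g) x)
  rw [mem_sing] at h1
  obtain ⟨k, -, hk⟩ := h1
  rw [ConjClasses.mk_eq_mk_iff_isConj, isConj_iff] at hk
  obtain ⟨⟨h, hhC⟩, hh⟩ := hk
  have hh' : h * x ^ k.val * h⁻¹ = g * x * g⁻¹ := congrArg Subtype.val hh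
  have h3 : (h⁻¹ * g) * x * (h⁻¹ * g)⁻¹ = x ^ k.val := by
    calc (h⁻¹ * g) * x * (h⁻¹ * g)⁻¹ = h⁻¹ * (g * x * g⁻¹) * h := by group
      _ = h⁻¹ * (h * x ^ k.val * h⁻¹) * h := by rw [hh']
      _ = x ^ k.val := by group
  refine ⟨h⁻¹ * g, ?_, ?_⟩
  · have h4 : (zpowers x).map (MulAut.conj (h⁻¹ * g)).toMonoidHom ≤ zpowers x := by
      rw [MonoidHom.map_zpowers, zpowers_le]
      change (h⁻¹ * g) * x * (h⁻¹ * g)⁻¹ ∈ _
      rw [h3]
      exact Subgroup.pow_mem _ (mem_zpowers x) _
    have h5 : (zpowers x).map (MulAut.conj (h⁻¹ * g)).toMonoidHom = zpowers x := by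
      refine Subgroup.eq_of_le_of_card_ge h4 ?_
      rw [Subgroup.card_map_of_injective (MulAut.conj (h⁻¹ * g)).injective]
    rw [Subgroup.mem_normalizer_iff_map_conj_eq]
    exact h5
  · rw [mem_centralizer_singleton_iff] at hhC
    calc (h⁻¹ * g) * a * (h⁻¹ * g)⁻¹ = h⁻¹ * (g * a * g⁻¹) * h := by group
      _ = h⁻¹ * (b * h) := by rw [hg]; group
      _ = b := by rw [← hhC]; group

/-- the number `m` is at most the number of classes of `G` which contain `p'`-elements of `C(x)` -/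
theorem numCls_le_conj (hG : (Nat.card G).factorization p = 1) {x : G} (hx : orderOf x = p)
    {ι : Type*} [Fintype ι] (t : ι → G)
    (ht : ∀ c : G, c * x = x * c → ¬ p ∣ orderOf c → ∃ i, IsConj (t i) c) :
    numCls p (zpowers x) ≤ Fintype.card ι := by
  classical
  unfold numCls
  let D := {C : ConjClasses (Subgroup.normalizer (zpowers x : Set G)) //
    ∀ n : Subgroup.normalizer (zpowers x : Set G), ConjClasses.mk n = C →
      ¬ p ∣ orderOf n ∧ (n : G) ∈ Subgroup.centralizer (zpowers x : Set G)}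
  have hex : ∀ A : D, ∃ i, ∃ a : Subgroup.normalizer (zpowers x : Set G), ConjClasses.mk a = A.1 ∧
      (a : G) * x = x * a ∧ IsConj (t i) (a : G) := by
    rintro ⟨A, hA⟩
    obtain ⟨a, rfl⟩ := ConjClasses.exists_rep A
    obtain ⟨h1, h2⟩ := hA a rfl
    have h3 : (a : G) * x = x * a := (mem_centralizer_iff.1 h2 x (mem_zpowers x)).symm
    obtain ⟨i, hi⟩ := ht a h3 (by rwa [Subgroup.orderOf_coe])
    exact ⟨i, a, rfl, h3, hi⟩
  choose f a ha hax hfa using hex
  have hfin : Finite D := inferInstance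
  have := Fintype.ofFinite D
  show Nat.card D ≤ _
  rw [Nat.card_eq_fintype_card]
  refine Fintype.card_le_of_injective f fun A B hAB => ?_
  apply Subtype.ext
  rw [← ha A, ← ha B, ConjClasses.mk_eq_mk_iff_isConj, isConj_iff]
  obtain ⟨n, hn, h⟩ := fuse hG hx (hax A) (hax B) ((hfa A).symm.trans (hAB ▸ hfa B))
  exact ⟨⟨n, hn⟩, Subtype.ext h⟩

end numCls

theorem order_ab : orderOf (w [.a, .b]) = 3 := by
  have : Fact (Nat.Prime 3) := ⟨Nat.prime_three⟩
  refine orderOf_eq_prime (Cfsg.Agent.H866.VanON.pow_eq _ _ (by decide +kernel)) ?_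
  have h := Cfsg.Agent.H866.VanON.pow_ne [.a, .b] 1 (by decide +kernel)
  rwa [pow_one] at h

/-- the `5'`-elements which commute with an element of order 5 -/
theorem cases {x c : ON} (hx : orderOf x = 5) (hc : c * x = x * c) (h5 : ¬ 5 ∣ orderOf c) :
    ∃ i : Fin 4, IsConj ((![1, on .f, v, w [.a, .b]] : Fin 4 → ON) i) c := by
  have := finite_ON
  have hcC : c ∈ centralizer ({x} : Set ON) := mem_centralizer_singleton_iff.2 hc
  have h1 : orderOf c ∣ 180 := by
    rw [← Cfsg.Agent.H999.ONFiveCent.card_cent_five hx, ← Subgroup.orderOf_mk c hcC]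
    exact _root_.orderOf_dvd_natCard _
  have h2 : orderOf c ∣ 36 := by
    have h3 : Nat.Coprime (orderOf c) 5 := ((Nat.Prime.coprime_iff_not_dvd Nat.prime_five).2 h5).symm
    exact h3.dvd_of_dvd_mul_left (by norm_num; exact h1)
  by_cases he : 2 ∣ orderOf c
  · -- even order
    obtain ⟨k, hk⟩ := he
    have hk0 : k ≠ 0 := by
      rintro rfl
      have := orderOf_pos c
      omega
    have hz : orderOf (c ^ k) = 2 := by
      rw [orderOf_pow_of_dvd hk0 ⟨2, by rw [hk, mul_comm]⟩, hk, Nat.mul_div_cancel _ (Nat.pos_of_ne_zero hk0)]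
    obtain ⟨z1, z2⟩ := orderOf_two hz
    obtain ⟨g, hg⟩ := isConj_iff.1 (Cfsg.Agent.KFacts.ON.OneClass.one_class z1 z2)
    obtain ⟨c', hc'⟩ : ∃ c', c' = g * c * g⁻¹ := ⟨_, rfl⟩
    obtain ⟨x', hx'⟩ : ∃ x', x' = g * x * g⁻¹ := ⟨_, rfl⟩
    have hcx : c' * x' = x' * c' := by
      rw [hc', hx']
      calc g * c * g⁻¹ * (g * x * g⁻¹) = g * (c * x) * g⁻¹ := by group
        _ = g * (x * c) * g⁻¹ := by rw [hc]
        _ = g * x * g⁻¹ * (g * c * g⁻¹) := by group
    have hcf : c' ^ k = on .f := by rw [hc', conj_pow, hg]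
    have hxo : orderOf x' = 5 := by rw [hx', Cfsg.Agent.H724.IMTool.orderOf_conj, hx]
    have hco : orderOf c' ∣ 36 := by rw [hc', Cfsg.Agent.H724.IMTool.orderOf_conj]; exact h2
    have hcK : c' ∈ K0 := by
      rw [mem_K0, ← hcf]
      exact ((Commute.refl c').pow_right k).eq
    have hxK : x' ∈ K0 := by
      rw [mem_K0, ← hcf]
      exact ((show Commute x' c' from hcx.symm).pow_right k).eq
    have hx5 : x' ^ 5 = 1 := by rw [← hxo, pow_orderOf_eq_one]
    have hxv : x' * v = v * x' := Cfsg.Agent.H866.ONFive.comm_v (by decide : Odd 5) hx5 hxK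
    have h20 := Cfsg.Agent.H866.ONFive.card_five (x := ⟨x', hxK⟩) (by rw [Subgroup.orderOf_mk, hxo])
    have hvK : v ∈ K0 := J_le (mem_J.2 rfl)
    have hxvK : x' * v ∈ K0 := mul_mem hxK hvK
    have hxvo : orderOf (x' * v) = 20 := by
      rw [Cfsg.Agent.H866.VanON.order_mul_v (by rw [hxo]; decide) hxv, hxo]
    have hz20 : zpowers (⟨x' * v, hxvK⟩ : K0) = centralizer ({(⟨x', hxK⟩ : K0)} : Set K0) := by
      refine Subgroup.eq_of_le_of_card_ge ?_ ?_
      · rw [zpowers_le, mem_centralizer_singleton_iff]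
        apply Subtype.ext
        change x' * v * x' = x' * (x' * v)
        rw [mul_assoc, ← hxv]
      · rw [h20, Nat.card_zpowers, Subgroup.orderOf_mk, hxvo]
    have hcz : (⟨c', hcK⟩ : K0) ∈ zpowers (⟨x' * v, hxvK⟩ : K0) := by
      rw [hz20, mem_centralizer_singleton_iff]
      exact Subtype.ext hcx
    rw [← mem_powers_iff_mem_zpowers] at hcz
    obtain ⟨m, hm⟩ := hcz
    have hm' : (x' * v) ^ m = c' := congrArg Subtype.val hm
    have hc20 : orderOf c' ∣ 20 := by
      rw [← hxvo, ← hm']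
      exact orderOf_pow_dvd m
    have hc4 : orderOf c' ∣ 4 := by
      have := Nat.dvd_gcd hco hc20
      norm_num at this
      exact this
    have h4 : c' ^ 4 = 1 := orderOf_dvd_iff_pow_eq_one.1 hc4
    have hcomm : Commute x' v := hxv
    have h5m : 5 ∣ m := by
      rw [← hm', ← pow_mul] at h4
      have h6 := orderOf_dvd_of_pow_eq_one h4
      rw [hxvo] at h6
      omega
    obtain ⟨j, rfl⟩ := h5m
    have hv4 : v ^ 4 = 1 := Cfsg.Agent.H866.ONFive.v_pow
    have hcv : c' = v ^ (j % 4) := by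
      rw [← hm', pow_mul, hcomm.mul_pow, hx5, one_mul, ← pow_mul]
      conv_lhs => rw [show 5 * j = 4 * j + (4 * (j / 4) + j % 4) by omega]
      rw [pow_add, pow_add, pow_mul, pow_mul, hv4, one_pow, one_pow, one_mul, one_mul]
    have hcc : IsConj c' c := by
      rw [hc']
      exact isConj_iff.2 ⟨g⁻¹, by group⟩
    have hj : j % 4 < 4 := Nat.mod_lt _ (by norm_num)
    interval_cases hjj : j % 4
    · refine ⟨0, ?_⟩
      have h6 : c' = 1 := by rw [hcv, pow_zero]
      rw [← h6] 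
      exact hcc
    · refine ⟨2, ?_⟩
      have h6 : c' = v := by rw [hcv, pow_one]
      change IsConj v c
      rw [← h6]
      exact hcc
    · refine ⟨1, ?_⟩
      have h6 : c' = on .f := by rw [hcv, Cfsg.Agent.H866.VanON.vf]
      change IsConj (on .f) c
      rw [← h6]
      exact hcc
    · refine ⟨2, ?_⟩
      have h6 : c' = v⁻¹ := by
        rw [hcv, eq_inv_iff_mul_eq_one, ← pow_succ]
        exact hv4
      change IsConj v c
      refine IsConj.trans (isConj_iff.2 ⟨on .d, vd⟩) ?_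
      rw [← h6]
      exact hcc
  · -- odd order
    have h3 : orderOf c ∣ 9 := by
      have h6 : Nat.Coprime (orderOf c) 4 := by
        have h7 : Nat.Coprime (orderOf c) 2 := ((Nat.Prime.coprime_iff_not_dvd Nat.prime_two).2 he).symm
        exact Nat.Coprime.pow_right 2 h7
      exact h6.dvd_of_dvd_mul_left (by norm_num; exact h2)
    have h9 := Cfsg.Agent.H701.no_nine hON c
    obtain ⟨k, hk, hk2⟩ := (Nat.dvd_prime_pow Nat.prime_three).1 (show orderOf c ∣ 3 ^ 2 by norm_num; exact h3)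
    interval_cases k
    · refine ⟨0, ?_⟩
      rw [pow_zero, orderOf_eq_one_iff] at hk2
      rw [hk2]
      exact IsConj.refl _
    · refine ⟨3, ?_⟩
      exact Cfsg.Agent.H999.ONFiveCent.isConj_three order_ab (by rw [hk2, pow_one])
    · exact absurd (by rw [hk2]; norm_num) h9

theorem factorization_five : (Nat.card ON).factorization 5 = 1 := by
  rw [card_ON]
  exact Cfsg.Agent.H713.factorization_eq_one (by norm_num) (by norm_num)

theorem numCls_five {x : ON} (hx : orderOf x = 5) [Fact (Nat.Prime 5)] : numCls 5 (zpowers x) ≤ 4 := by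
  have := finite_ON
  have h := numCls_le_conj factorization_five hx (![1, on .f, v, w [.a, .b]] : Fin 4 → ON)
    (fun c hc h5 => cases hx hc h5)
  simpa using h

/-- elements of order 19: six fusion exponents -/
theorem not_conj_19 {y : ON} (hy : orderOf y = 19) : ¬ IsConj y (y ^ 2) := by
  have := finite_ON
  have : Fact (Nat.Prime 19) := ⟨by norm_num⟩
  have hfac : (Nat.card ON).factorization 19 = 1 := by
    rw [card_ON]
    exact Cfsg.Agent.H713.factorization_eq_one (by norm_num) (by norm_num)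
  have he := Cfsg.Agent.H724.IMTool.fus_card_eq (e := 6) (c := 1) hfac hy
    (by rw [Cfsg.Agent.H680.ONThirtyOne.card_cent_nineteen hy]) (by rw [card_ON]; decide)
  refine Cfsg.Agent.H724.IMTool.not_isConj_pow (p := 19) (by rw [← hy, pow_orderOf_eq_one]) (by norm_num) ?_
  rw [he]
  norm_num

/-- **the Itô-Michler theorem for `O'N`, p = 5** -/
theorem IM_five : IM 5 ON := by
  have := finite_ON
  have f5 : Fact (Nat.Prime 5) := ⟨Nat.prime_five⟩
  obtain ⟨y3, h3, h3v⟩ := Cfsg.Agent.H866.VanON.exists_J 3 (by norm_num) (by norm_num)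
  obtain ⟨y7, h7, h7v⟩ := Cfsg.Agent.H866.VanON.exists_J 7 (by norm_num) (by norm_num)
  obtain ⟨x, hx⟩ := Cfsg.Agent.H866.VanON.exists_G 5 (by norm_num) (by norm_num)
  obtain ⟨y11, h11⟩ := Cfsg.Agent.H866.VanON.exists_G 11 (by norm_num) (by norm_num)
  obtain ⟨y19, h19⟩ := Cfsg.Agent.H866.VanON.exists_G 19 (by norm_num) (by norm_num)
  obtain ⟨y31, h31⟩ := Cfsg.Agent.H866.VanON.exists_G 31 (by norm_num) (by norm_num)
  have o3 : Odd (orderOf y3) := by rw [h3]; decide
  have o7 : Odd (orderOf y7) := by rw [h7]; decide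
  have hx5 : x ^ 5 = 1 := by rw [← hx, pow_orderOf_eq_one]
  have he : (fus (p := 5) x).card ≤ 4 :=
    Nat.le_of_dvd (by norm_num) (Cfsg.Agent.H724.IMTool.fus_card_dvd (p := 5) hx5)
  have one : ∀ g : ON, ∀ n, orderOf g = n → ∃ l : List ON, l.length = 1 ∧ (∀ g ∈ l, orderOf g = n) ∧
      l.Pairwise fun a b => ¬ IsConj a b := fun g n hg =>
    ⟨[g], rfl, by intro a ha; rw [List.mem_singleton.1 ha]; exact hg, List.pairwise_singleton _ _⟩
  have two : ∀ g k : ON, ∀ n, orderOf g = n → orderOf k = n → ¬ IsConj g k → ∃ l : List ON, l.length = 2 ∧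
      (∀ g ∈ l, orderOf g = n) ∧ l.Pairwise fun a b => ¬ IsConj a b := fun g k n hg hk hgk =>
    ⟨[g, k], rfl, by
      intro a ha
      simp only [List.mem_cons, List.not_mem_nil, or_false] at ha
      rcases ha with rfl | rfl
      · exact hg
      · exact hk, by simpa only [_root_.isConj_iff, _root_.not_exists, _root_.List.pairwise_cons, _root_.List.mem_cons, _root_.List.not_mem_nil, _root_.or_false, _root_.forall_eq, _root_.IsEmpty.forall_iff, _root_.implies_true, _root_.List.Pairwise.nil, _root_.and_self, _root_.and_true] using hgk⟩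
  refine Cfsg.Agent.H724.IMTool.IM_T5_lists factorization_five hx he (numCls_five hx)
    {1, 2, 3, 4, 6, 7, 8, 11, 12, 14, 16, 19, 28, 31} (fun n => if n = 4 ∨ n = 19 ∨ n = 28 then 2 else 1) ?_
    (by decide)
  intro n hn
  simp only [Finset.mem_insert, Finset.mem_singleton] at hn
  rcases hn with rfl | rfl | rfl | rfl | rfl | rfl | rfl | rfl | rfl | rfl | rfl | rfl | rfl | rfl
  · exact ⟨by norm_num, one 1 _ orderOf_one⟩
  · exact ⟨by norm_num, one _ _ Cfsg.Agent.H866.VanON.order_f⟩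
  · exact ⟨by norm_num, one _ _ h3⟩
  · exact ⟨by norm_num, two _ _ _ Cfsg.Agent.H866.VanON.order_v Cfsg.Agent.H866.VanON.order_av
      Cfsg.Agent.H866.VanON.not_conj_4⟩
  · exact ⟨by norm_num, one (y3 * on .f) _ (by rw [Cfsg.Agent.H866.VanON.order_mul_f o3 h3v, h3])⟩
  · exact ⟨by norm_num, one _ _ h7⟩
  · exact ⟨by norm_num, one _ _ Cfsg.Agent.H866.VanON.order_8⟩
  · exact ⟨by norm_num, one _ _ h11⟩
  · exact ⟨by norm_num, one (y3 * v) _ (by rw [Cfsg.Agent.H866.VanON.order_mul_v o3 h3v, h3])⟩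
  · exact ⟨by norm_num, one (y7 * on .f) _ (by rw [Cfsg.Agent.H866.VanON.order_mul_f o7 h7v, h7])⟩
  · exact ⟨by norm_num, one _ _ Cfsg.Agent.H866.VanON.order_16⟩
  · exact ⟨by norm_num, two y19 (y19 ^ 2) _ h19 (by rw [Nat.Coprime.orderOf_pow (by rw [h19]; norm_num), h19])
      (not_conj_19 h19)⟩
  · exact ⟨by norm_num, two (y7 * v) (y7 * v⁻¹) _ (by rw [Cfsg.Agent.H866.VanON.order_mul_v o7 h7v, h7])
      (by rw [Cfsg.Agent.H866.VanON.order_inv_v o7 h7v, h7]) (Cfsg.Agent.H866.VanON.not_conj_28 h7 h7v)⟩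
  · exact ⟨by norm_num, one _ _ h31⟩

end Cfsg.Agent.H999.ONIMFive
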