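import Cfsg.Agent.CpAutHe.Seven
import Cfsg.Agent.CpAutON.Gen
import Cfsg.Agent.Prune
set_option linter.all false
open scoped Cfsg.Agent.FastGrp

/-!
# `He`: the centraliser of an element of order 17 has order at most 17 (text of helper393, small imports) (helper999)
-/

set_option autoImplicit false
set_option maxRecDepth 100000

namespace Cfsg.Agent.H999.HeSeventeen

open Subgroup Cfsg
open Cfsg.Spor.He (Gen)
open Cfsg.Agent.SporadicB.HePerm Cfsg.Agent.FixBN.HeStab Cfsg.Agent.KFacts.He.Lv Cfsg.Agent.CpAutHe.Cnt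
  Cfsg.Agent.CpAutHe.Bound

/-- the word -/
def X : List Gen := [.c, .d, .g, .b]

theorem c0 : cnt 2058 (tst X [] [1] 1927) = 1 := by
  rw [Cfsg.Agent.CpAutHe.Cnt.tst_fast]
  decide +kernel

theorem s1 : ([1927].all fun a => elemN a (nx X [] 1927)) = true := by decide +kernel

theorem c1 : cnt 2058 (tst X [1927] [2, 3, 7] 1) = 17 := by
  rw [Cfsg.Agent.CpAutHe.Cnt.tst_fast]
  decide +kernel

theorem s2 : ([1, 22, 1367, 1767, 1856].all fun a => elemN a (nx X (nx X [] 1927) 1)) = true := by decide +kernel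

theorem c2 : cnt 2058 (tst X [1, 22, 1367, 1767, 1856] [] 0) = 1 := by
  rw [Cfsg.Agent.CpAutHe.Cnt.tst_fast]
  decide +kernel

theorem s3 : ([1471, 22, 1856, 743, 660, 1767, 1927].all fun a => elemN a (nx X (nx X (nx X [] 1927) 1) 0)) = true := by
  decide +kernel

theorem c3 : cnt 2058 (tst X [1471, 22, 1856] [] 32) = 1 := by
  rw [Cfsg.Agent.CpAutHe.Cnt.tst_fast]
  decide +kernel

theorem c4 : cnt 2058 (tst X [743, 660, 1767, 1856, 1927] [] 8) = 1 := by
  rw [Cfsg.Agent.CpAutHe.Cnt.tst_fast]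
  decide +kernel

theorem card_le : Nat.card ↥(centralizer ({wd X} : Set Cfsg.Spor.He)) ≤ 17 := by
  have hC : ∀ c ∈ centralizer ({wd X} : Set Cfsg.Spor.He), c * wd X = wd X * c := fun c hc =>
    mem_centralizer_singleton_iff.1 hc
  have hnil : ∀ c : Cfsg.Spor.He, ∀ f ∈ ([] : List ℕ), Fx c f := fun _ _ hf => absurd hf List.not_mem_nil
  have hF0 : ∀ c ∈ centralizer ({wd X} : Set Cfsg.Spor.He), ∀ f ∈ nx X [] 1927, Fx c f := fun c hc =>
    fx_nx (p := 1927) (hC c hc) (hnil c) (fix_of_one (hC c hc) (hnil c) 1927 [] [1] (fun _ h => h) c0)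
  have hC1 : ∀ c ∈ st (centralizer ({wd X} : Set Cfsg.Spor.He)) 1, c * wd X = wd X * c := fun c hc =>
    hC c (mem_st.1 hc).1
  have hF1 : ∀ c ∈ st (centralizer ({wd X} : Set Cfsg.Spor.He)) 1, ∀ f ∈ nx X (nx X [] 1927) 1, Fx c f :=
    fun c hc => fx_nx (p := 1) (hC1 c hc) (hF0 c (mem_st.1 hc).1) (mem_st.1 hc).2
  have h1 : Nat.card ↥(st (centralizer ({wd X} : Set Cfsg.Spor.He)) 1) ≤ 1 := by
    rw [Subgroup.card_le_one_iff_eq_bot, eq_bot_iff_forall]
    intro c hc
    have e0 : phi c 0 = 0 := fix_of_one (hC1 c hc) (hF1 c hc) 0 _ [] (sub_of_chk s2) c2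
    have hF2 : ∀ f ∈ nx X (nx X (nx X [] 1927) 1) 0, Fx c f := fx_nx (p := 0) (hC1 c hc) (hF1 c hc) e0
    have hs := sub_of_chk s3
    have k := fix_of_one (hC1 c hc) hF2
    have e2 : phi c 32 = 32 := k 32 [1471, 22, 1856] [] (fun a ha => hs (by revert ha; revert a; decide)) c3
    have e3 : phi c 8 = 8 := k 8 [743, 660, 1767, 1856, 1927] [] (fun a ha => hs (by revert ha; revert a; decide)) c4
    have e1 : phi c 1 = 1 := (mem_st.1 hc).2
    have e : ∀ i, phi (1 : Cfsg.Spor.He) i = i := fun i => by rw [map_one]; rfl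
    apply eq_of_base
    · rw [e0, e]
    · rw [e1, e]
    · rw [e2, e]
    · rw [e3, e]
  exact step hC hF0 1 [1927] [2, 3, 7] (sub_of_chk s1) c1 h1

theorem chk17 : chkB (pw X 17) [] = true := by decide +kernel

theorem order : orderOf (wd X) = 17 := by
  have : Fact (Nat.Prime 17) := ⟨by norm_num⟩
  refine orderOf_eq_prime ?_ (CpAutHe.Seven.ne_one_of_act 1 (by decide +kernel))
  have h := eq_of_chkB chk17
  rwa [wd_pw, wd_nil] at h


end Cfsg.Agent.H999.HeSeventeen
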