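import Cfsg.Agent.H719.RowsExc_mg_m3
import Cfsg.Agent.BpSpor.Row.He
import Cfsg.Agent.H999.HeSeventeen
import Cfsg.Agent.Prune
set_option linter.all false
open scoped Cfsg.Agent.FastGrp

/-!
# Row `He` of S4329 (helper999)
-/

set_option autoImplicit false

namespace Cfsg.Agent.H999.SpRowHe

open Subgroup Cfsg Cfsg.Agent.H568 Cfsg.Agent.H999.SpRow

universe u

/-- elements of order 17 commute with no elements of other prime order -/
theorem no_comm {p : ℕ} (hp : p.Prime) (hp17 : p ≠ 17) (x y : Cfsg.Spor.He) (hx : orderOf x = 17)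
    (hy : orderOf y = p) : x * y ≠ y * x := by
  intro h
  have hfin : Finite Cfsg.Spor.He := Nat.finite_of_card_ne_zero (by rw [KFacts.He.Classes.card_he]; norm_num)
  have hcard : Nat.card Cfsg.Spor.He = 4030387200 := KFacts.He.Classes.card_he
  have h17 : Fact (Nat.Prime 17) := ⟨by norm_num⟩
  obtain ⟨g, hg⟩ := CpAutON.Gen.conj_into (p := 17) (by rw [hcard]; norm_num) hx HeSeventeen.order
  have h1 := (CpAutHe.Seven.card_cent_le hx HeSeventeen.order hg).trans HeSeventeen.card_le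
  have hxC : x ∈ centralizer ({x} : Set Cfsg.Spor.He) := mem_centralizer_singleton_iff.2 rfl
  have hyC : y ∈ centralizer ({x} : Set Cfsg.Spor.He) := mem_centralizer_singleton_iff.2 h.symm
  have h2 : 17 ∣ Nat.card (centralizer ({x} : Set Cfsg.Spor.He)) := by
    have := orderOf_dvd_natCard (⟨x, hxC⟩ : centralizer ({x} : Set Cfsg.Spor.He))
    rwa [← orderOf_coe, hx] at this
  have h3 : p ∣ Nat.card (centralizer ({x} : Set Cfsg.Spor.He)) := by
    have := orderOf_dvd_natCard (⟨y, hyC⟩ : centralizer ({x} : Set Cfsg.Spor.He))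
    rwa [← orderOf_coe, hy] at this
  have h4 : 17 * p ∣ Nat.card (centralizer ({x} : Set Cfsg.Spor.He)) :=
    Nat.Coprime.mul_dvd_of_dvd_of_dvd ((Nat.coprime_primes (by norm_num) hp).2 (Ne.symm hp17)) h2 h3
  have h5 := Nat.le_of_dvd Nat.card_pos h4
  have := hp.two_le
  omega

theorem row_he {K : Type u} [Group K] (h : Spor.IsoHe K) (p : ℕ) [hp : Fact p.Prime] (hp2 : p ≠ 2) : Row p K := by
  refine row_of_dat (BpSpor.Row.dat_he h) (by norm_num) (by norm_num) hp2 fun h2 s hs => ?_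
  obtain ⟨e⟩ := h
  have hpl : p = 3 ∨ p = 5 ∨ p = 7 := by
    have h3 : p ∣ 4030387200 := (Dvd.intro_left p (by ring : p * p = p ^ 2)).trans h2
    have h4 : (4030387200 : ℕ) = 2 ^ 10 * 3 ^ 3 * 5 ^ 2 * 7 ^ 3 * 17 := by norm_num
    have h5 : p = 2 ∨ p = 3 ∨ p = 5 ∨ p = 7 ∨ p = 17 := by
      rw [h4] at h3
      rcases (Nat.Prime.dvd_mul hp.1).1 h3 with h3 | h3
      · rcases (Nat.Prime.dvd_mul hp.1).1 h3 with h3 | h3
        · rcases (Nat.Prime.dvd_mul hp.1).1 h3 with h3 | h3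
          · rcases (Nat.Prime.dvd_mul hp.1).1 h3 with h3 | h3
            · exact Or.inl ((Nat.prime_dvd_prime_iff_eq hp.1 (by norm_num)).1 (hp.1.dvd_of_dvd_pow h3))
            · exact Or.inr (Or.inl ((Nat.prime_dvd_prime_iff_eq hp.1 (by norm_num)).1 (hp.1.dvd_of_dvd_pow h3)))
          · exact Or.inr (Or.inr (Or.inl ((Nat.prime_dvd_prime_iff_eq hp.1 (by norm_num)).1 (hp.1.dvd_of_dvd_pow h3))))
        · exact Or.inr (Or.inr (Or.inr (Or.inl
            ((Nat.prime_dvd_prime_iff_eq hp.1 (by norm_num)).1 (hp.1.dvd_of_dvd_pow h3)))))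
      · exact Or.inr (Or.inr (Or.inr (Or.inr ((Nat.prime_dvd_prime_iff_eq hp.1 (by norm_num)).1 h3))))
    rcases h5 with h5 | h5 | h5 | h5 | h5
    · exact absurd h5 hp2
    · exact Or.inl h5
    · exact Or.inr (Or.inl h5)
    · exact Or.inr (Or.inr h5)
    · rw [h5] at h2
      exact absurd h2 (by norm_num)
  refine ⟨17, by norm_num, by norm_num, ?_, ?_, fun x hx hc => ?_⟩
  · rcases hpl with rfl | rfl | rfl <;> norm_num
  · rcases hpl with rfl | rfl | rfl
    · exact cop_of (m := 3) (by norm_num) (by decide)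
    · exact cop_of (m := 2) (by norm_num) (by decide)
    · exact cop_of (m := 3) (by norm_num) (by decide)
  · refine no_comm hp.1 ?_ (e x) (e s) (by rw [MulEquiv.orderOf_eq, hx]) (by rw [MulEquiv.orderOf_eq, hs])
      (by rw [← map_mul, hc, map_mul])
    rcases hpl with rfl | rfl | rfl <;> norm_num

end Cfsg.Agent.H999.SpRowHe
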