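import Cfsg.Agent.RuD.Letters
import Cfsg.Agent.H719.RowsExc_mg_m3
import Cfsg.Agent.Prune
set_option linter.all false
open scoped Cfsg.Agent.FastGrp

/-!
# The Rudvalis group: the centraliser of an element of order 29 has order at most 58 (helper999)

In the model `RuOrder.H` on 4060 points `ρ` rotates the blocks of 29 points. An element commuting with `ρ` maps the
point `0` into the blocks 0 and 107, and if it fixes `0` it is trivial.
-/

set_option autoImplicit false
set_option maxRecDepth 100000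
set_option exponentiation.threshold 5000

namespace Cfsg.Agent.H999.RuTwentyNine

open Cfsg.Agent.Lib Cfsg.Agent.Lib.BitNet Cfsg.Agent.SporadicB Cfsg.Agent.SporadicB.RuData Cfsg.Agent.SporadicB.RuOrder
open Cfsg.Agent.SporRec.R3.Kernel Cfsg.Agent.RuD.Letters Cfsg.Agent.H999.RuRotData
open Cfsg.Agent.Lib.BitNetSimple (force force_eq tb tb_eq)

theorem okR : okNet 4060 nR = true := by decide +kernel
theorem invR : invCheck 12 row nR = true := by decide +kernel

/-- the rotation -/
def rho : RuOrder.H := el nR okR invR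

/-- rotation of the number `v` by `i` -/
def rot (i v : ℕ) : ℕ := Nat.add (Nat.mul 29 (Nat.div v 29)) (Nat.mod (Nat.add (Nat.mod v 29) i) 29)

theorem rot_def (i v : ℕ) : rot i v = 29 * (v / 29) + (v % 29 + i) % 29 := rfl

private def trs (x : ℕ) (l : List (ℕ × ℕ)) : ℕ :=
  l.foldr (fun p y => dsw (Nat.pow 2 p.2 - Nat.pow 2 p.1) (trMask 16 p.1 p.2) y) x

private theorem testBit_trs (x : ℕ) : ∀ l : List (ℕ × ℕ), (∀ p ∈ l, p.1 < p.2 ∧ p.2 < 16) → ∀ I < 2 ^ 16, ∃ J < 2 ^ 16,
    (trs x l).testBit I = x.testBit J ∧ ∀ j, J.testBit j = I.testBit (l.foldr (fun p i => swapIdx p.1 p.2 i) j)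
  | [], _, I, hI => ⟨I, hI, rfl, fun _ => rfl⟩
  | p :: l, h, I, hI => by
    obtain ⟨h1, h2⟩ := h p List.mem_cons_self
    obtain ⟨h3, h4⟩ := sw_trMask h1 h2 hI
    obtain ⟨J, h5, h6, h7⟩ := testBit_trs x l (fun q hq => h q (List.mem_cons_of_mem _ hq)) _ h4
    exact ⟨J, h5, (testBit_dsw (trMask_valid h1 h2) _ I).trans h6, fun j => (h7 j).trans (h3 _)⟩

private def swL : List (ℕ × ℕ) :=
  [(0, 12), (1, 13), (2, 14), (3, 15), (0, 8), (1, 9), (2, 10), (3, 11), (0, 4), (1, 5), (2, 6), (3, 7)]

/-- the table of a network -/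
private def tabN (l : List (ℕ × ℕ)) : ℕ := trs (appMr 4096 4 l.reverse (pack (fun r => idxMask 16 r) 4096 4 0)) swL

private theorem tabN_eq {l : List (ℕ × ℕ)} (h : In 4096 l) {c : ℕ} (hc : c < 4096) :
    Nat.mod (Nat.shiftRight (tabN l) (Nat.mul 16 c)) 4096 = app l c := by
  have h0 := h.app_lt hc
  refine Nat.eq_of_testBit_eq fun r => ?_
  show (tabN l >>> (16 * c) % 2 ^ 12).testBit r = _
  rw [Nat.testBit_mod_two_pow, Nat.testBit_shiftRight]
  rcases Nat.lt_or_ge r 12 with hr | hr
  · obtain ⟨J, h1, h2, h3⟩ := testBit_trs (appMr 4096 4 l.reverse (pack (fun r => idxMask 16 r) 4096 4 0)) swL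
      (by decide) (16 * c + r) (by omega)
    have h4 : J = 2 ^ 12 * r + c := Nat.eq_of_testBit_eq fun j => by
      rcases Nat.lt_or_ge j 16 with hj | hj
      · have h5 : ∀ j < 16, swL.foldr (fun p i => swapIdx p.1 p.2 i) j = if j < 12 then j + 4 else j - 12 := by decide
        rw [h3, h5 j hj, Nat.testBit_two_pow_mul_add r (show c < 2 ^ 12 from hc),
          show 16 * c + r = 2 ^ 4 * c + r from rfl, Nat.testBit_two_pow_mul_add c (show r < 2 ^ 4 by omega)]
        by_cases h6 : j < 12
        · rw [if_pos h6, if_pos h6, if_neg (by omega), Nat.add_sub_cancel]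
        · rw [if_neg h6, if_neg h6, if_pos (by omega)]
      · have h6 : 2 ^ 16 ≤ 2 ^ j := Nat.pow_le_pow_right (by decide) hj
        rw [Nat.testBit_lt_two_pow (h1.trans_le h6), Nat.testBit_lt_two_pow (lt_of_lt_of_le (by omega) h6)]
    have h7 := testBit_appMr (k := 4) (l := l.reverse) (fun p hp => h p (List.mem_reverse.1 hp))
      (pack (fun r => idxMask 16 r) 4096 4 0) (r := r) (by omega) h0
    rw [Cfsg.Agent.Lib.BitNetSimple.app_reverse, appInv_app h.valid, testBit_pack _ 4 0 (by omega) h0, Nat.zero_add,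
      testBit_idxMask (by omega), decide_eq_true (show app l c < 2 ^ 16 by omega), Bool.true_and] at h7
    rw [decide_eq_true hr, Bool.true_and, ← h7]
    exact h2.trans (congrArg _ h4)
  · rw [decide_eq_false (by omega), Bool.false_and,
      Nat.testBit_lt_two_pow (h0.trans_le (Nat.pow_le_pow_right (by decide) hr : 2 ^ 12 ≤ 2 ^ r))]

theorem chk1 : allB (fun v => Nat.beq (appK nR v) (rot 1 v)) 4060 = true := by
  have h : force (tabN nR) (fun T =>
      allB (fun v => Nat.beq (Nat.mod (Nat.shiftRight T (Nat.mul 16 v)) 4096) (rot 1 v)) 4060) = true := by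
    decide +kernel
  rw [force_eq] at h
  refine (allB_iff _ _).2 fun v hv => ?_
  have h1 := (allB_iff _ _).1 h v hv
  rw [tabN_eq (invCheck_sound (K := 12) sym invR).1 (by omega)] at h1
  rw [appK_eq]
  exact h1

theorem rho_apply (v : Fin 4060) : ((rho : Equiv.Perm (Fin 4060)) v : ℕ) = rot 1 v := by
  have h := (allB_iff _ _).1 chk1 v v.2
  have h1 := Nat.eq_of_beq_eq_true h
  rw [appK_eq] at h1
  exact h1

theorem rot_add (i v : ℕ) : rot 1 (rot i v) = rot (i + 1) v := by
  rw [rot_def, rot_def, rot_def]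
  have h1 : (29 * (v / 29) + (v % 29 + i) % 29) / 29 = v / 29 := by omega
  have h2 : (29 * (v / 29) + (v % 29 + i) % 29) % 29 = (v % 29 + i) % 29 := by omega
  rw [h1, h2]
  omega

theorem rho_pow_apply (i : ℕ) (v : Fin 4060) : (((rho ^ i : RuOrder.H) : Equiv.Perm (Fin 4060)) v : ℕ) = rot i v := by
  induction i with
  | zero =>
    rw [pow_zero, rot_def]
    change (v : ℕ) = _
    omega
  | succ i ih =>
    rw [pow_succ']
    change ((rho : Equiv.Perm (Fin 4060)) (((rho ^ i : RuOrder.H) : Equiv.Perm (Fin 4060)) v) : ℕ) = _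
    rw [rho_apply, ih, rot_add]

theorem rho_pow : rho ^ 29 = 1 := by
  apply Subtype.ext
  apply Equiv.ext
  intro v
  apply Fin.ext
  rw [rho_pow_apply, rot_def]
  change _ = (v : ℕ)
  omega

theorem rho_ne_one : rho ≠ 1 := by
  intro h
  have h1 := rho_apply ⟨0, by norm_num⟩
  rw [h] at h1
  exact absurd h1 (by decide)

/-- some power of the rotation up to the 14th distinguishes the points `v` and `0` -/
noncomputable def mis (v : ℕ) : Bool :=
  force (row v) fun r => force (row 0) fun r0 =>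
    Bool.rec true false (allL (fun i => Bool.rec (Bool.rec true false (tb r0 i)) (tb r0 i) (tb r (rot i v)))
      [1, 2, 3, 4, 5, 6, 7, 8, 9, 10, 11, 12, 13, 14])

theorem chk2 : allB (fun v => Bool.rec (Bool.rec (mis v) true (Nat.beq (Nat.div v 29) 107)) true
    (Nat.beq (Nat.div v 29) 0)) 4060 = true := by decide +kernel

theorem chk2' (v : Fin 4060) (h : ∀ i : ℕ, (row v).testBit (rot i v) = (row 0).testBit (rot i 0)) :
    (v : ℕ) / 29 = 0 ∨ (v : ℕ) / 29 = 107 := by
  have h1 := (allB_iff _ _).1 chk2 v v.2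
  by_contra hcon
  push Not at hcon
  have h2 : Nat.beq (Nat.div (v : ℕ) 29) 0 = false := by
    rw [Bool.eq_false_iff]
    exact fun h3 => hcon.1 (Nat.eq_of_beq_eq_true h3)
  have h3 : Nat.beq (Nat.div (v : ℕ) 29) 107 = false := by
    rw [Bool.eq_false_iff]
    exact fun h3 => hcon.2 (Nat.eq_of_beq_eq_true h3)
  rw [h2, h3] at h1
  have h4 : mis v = true := h1
  rw [mis, force_eq, force_eq] at h4
  have h5 : allL (fun i => Bool.rec (motive := fun _ => Bool) (Bool.rec (motive := fun _ => Bool) true false (tb (row 0) i))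
      (tb (row 0) i) (tb (row v) (rot i v)))
      [1, 2, 3, 4, 5, 6, 7, 8, 9, 10, 11, 12, 13, 14] = true := by
    rw [allL_iff]
    intro i hi
    have hi29 : rot i 0 = i := by
      simp only [List.mem_cons, List.not_mem_nil, or_false] at hi
      rw [rot_def]
      omega
    rw [tb_eq, tb_eq, h i, hi29]
    cases (row 0).testBit i <;> rfl
  rw [h5] at h4
  exact absurd h4 (by simp)

/-- evaluate a list of numbers first -/
noncomputable def frc (g : ℕ → ℕ) : List ℕ → (List ℕ → Bool) → Bool :=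
  List.rec (motive := fun _ => (List ℕ → Bool) → Bool) (fun f => f [])
    (fun k _ ih f => ih fun l => force (g k) fun m => f (m :: l))

theorem frc_eq (g : ℕ → ℕ) : ∀ (ks : List ℕ) (f : List ℕ → Bool), frc g ks f = f (ks.map g)
  | [], f => rfl
  | k :: ks, f => by
    have e : frc g (k :: ks) f = frc g ks fun l => force (g k) fun m => f (m :: l) := rfl
    rw [e, frc_eq g ks, force_eq]
    rfl

theorem chk3 : frc row [0, 1, 2, 3, 4, 5, 6, 7, 8, 9, 10, 11, 12, 13, 14, 15, 16, 17, 18, 19, 20, 21, 22, 23, 24, 25, 26,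
    27, 28] (fun l => sep l (Nat.sub (Nat.pow 2 4060) 1)) = true := by decide +kernel

end Cfsg.Agent.H999.RuTwentyNine

private theorem dce_66075cc57354 : _root_.True := by
  try have : _root_.True := by simp only [_root_.Cfsg.Agent.H999.RuTwentyNine.mis.eq_1]
  exact _root_.True.intro
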